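import Groth.Agent.Lib.Helper8.RelTwist.Rels
import Groth.Agent.Lib.Lead.QC.FreeData

/-! # Additivity and locality of the chart relations; compatibility of maps out of tensor products. -/

set_option autoImplicit false
universe u
open AlgebraicGeometry CategoryTheory Opposite TopologicalSpace TensorProduct

namespace Groth.Agent.H8.RelTwist

open Groth.Agent.LD.QC Groth.Agent.H8.ProjTilde Groth.Agent.H8.RelTilde

variable {Y P : Scheme.{u}} {𝒮 : RelProj.QCGrAlg Y} {p : P ⟶ Y}
  {chart : ∀ (U : Y.Opens) (hU : IsAffineOpen U), (((p ⁻¹ᵁ U : P.Opens) : Scheme.{u}) ≅ Proj (𝒮.deg U hU))}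
  {T : ∀ (U : Y.Opens) (hU : IsAffineOpen U), (Proj (𝒮.deg U hU)).Modules}

/-- the relation is additive. -/
def ChartRel.IsAdditive (R : ChartRel 𝒮 p chart T) : Prop :=
  (∀ (U : Y.Opens) (hU : IsAffineOpen U) (r : Γ(Y, U)) (W : P.Opens), R.Rel U hU r W 0 0) ∧
  ∀ (U : Y.Opens) (hU : IsAffineOpen U) (r : Γ(Y, U)) (W : P.Opens)
    (tV tV' : Γ((Scheme.Modules.pushforward (RelProj.emb p chart U hU)).obj (T U hU), W))
    (tD tD' : Γ((Scheme.Modules.pushforward (RelProj.emb p chart (Y.basicOpen r) (hU.basicOpen r))).obj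
      (T (Y.basicOpen r) (hU.basicOpen r)), W)),
    R.Rel U hU r W tV tD → R.Rel U hU r W tV' tD' → R.Rel U hU r W (tV + tV') (tD + tD')

/-- the relation is local. -/
def ChartRel.IsLocal (R : ChartRel 𝒮 p chart T) : Prop :=
  ∀ (U : Y.Opens) (hU : IsAffineOpen U) (r : Γ(Y, U)) (W : P.Opens)
    (tV : Γ((Scheme.Modules.pushforward (RelProj.emb p chart U hU)).obj (T U hU), W))
    (tD : Γ((Scheme.Modules.pushforward (RelProj.emb p chart (Y.basicOpen r) (hU.basicOpen r))).obj
      (T (Y.basicOpen r) (hU.basicOpen r)), W)),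
    (∀ x ∈ W, ∃ (W' : P.Opens) (h : W' ≤ W), x ∈ W' ∧ R.Rel U hU r W'
      (((Scheme.Modules.pushforward (RelProj.emb p chart U hU)).obj (T U hU)).presheaf.map (homOfLE h).op tV)
      (((Scheme.Modules.pushforward (RelProj.emb p chart (Y.basicOpen r) (hU.basicOpen r))).obj
        (T (Y.basicOpen r) (hU.basicOpen r))).presheaf.map (homOfLE h).op tD)) →
    R.Rel U hU r W tV tD

variable (hP : RelProj.IsRelProj 𝒮 p chart)

lemma twistRel_isAdditive (n : ℤ) : (twistRel hP n).IsAdditive := by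
  refine ⟨fun U hU r W y hy hy' => ?_, fun U hU r W tV tV' tD tD' h h' y hy hy' => ?_⟩
  · exact (map_zero (GrTwist.locMap _ _ y)).symm
  · exact (congrArg₂ (· + ·) (h y hy hy') (h' y hy hy')).trans (map_add (GrTwist.locMap _ _ y) _ _).symm

lemma twistRel_isLocal (n : ℤ) : (twistRel hP n).IsLocal := by
  intro U hU r W tV tD h y hy hy'
  obtain ⟨W', hW', hxW', hrel⟩ := h _ hy
  have hy2 : (RelProj.emb p chart U hU).base (ProjectiveSpectrum.comap
      (𝒮.res hU (hU.basicOpen r) (Y.basicOpen_le r)) (𝒮.irrelevant_le_map U hU r) y) ∈ W' := by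
    rw [emb_comap hP]; exact hxW'
  exact hrel y hxW' hy2

lemma tildeRel_isAdditive (ℳ : RelProj.GrModule 𝒮) (n : ℤ) : (tildeRel hP ℳ n).IsAdditive := by
  refine ⟨fun U hU r W y hy hy' => ?_, fun U hU r W tV tV' tD tD' h h' y hy hy' => ?_⟩
  · exact (map_zero (GrMod.locModMap _ _ _ y)).symm
  · exact (congrArg₂ (· + ·) (h y hy hy') (h' y hy hy')).trans
      (map_add (GrMod.locModMap _ _ _ y) _ _).symm

lemma tildeRel_isLocal (ℳ : RelProj.GrModule 𝒮) (n : ℤ) : (tildeRel hP ℳ n).IsLocal := by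
  intro U hU r W tV tD h y hy hy'
  obtain ⟨W', hW', hxW', hrel⟩ := h _ hy
  have hy2 : (RelProj.emb p chart U hU).base (ProjectiveSpectrum.comap
      (𝒮.res hU (hU.basicOpen r) (Y.basicOpen_le r)) (𝒮.irrelevant_le_map U hU r) y) ∈ W' := by
    rw [emb_comap hP]; exact hxW'
  exact hrel y hxW' hy2

/-- **compatibility of a family of maps out of a tensor product can be checked on pure tensors.** -/
theorem compat_tensor (R : ChartRel 𝒮 p chart T) (hadd : R.IsAdditive) (hloc : R.IsLocal)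
    (M N : P.Modules)
    (θ : ∀ (U : Y.Opens) (hU : IsAffineOpen U),
      CohB1.tensorMod M N ⟶ (Scheme.Modules.pushforward (RelProj.emb p chart U hU)).obj (T U hU))
    (h : ∀ (U : Y.Opens) (hU : IsAffineOpen U) (r : Γ(Y, U)) (W : P.Opens) (a : Γ(M, W)) (b : Γ(N, W)),
      R.Rel U hU r W ((θ U hU).app W (SecTwist.tmul M N W a b))
        ((θ (Y.basicOpen r) (hU.basicOpen r)).app W (SecTwist.tmul M N W a b))) :
    Compat R (CohB1.tensorMod M N) θ := by
  intro U hU r W z
  apply hloc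
  intro x hx
  obtain ⟨V, hV, hxV, w, hw⟩ := tensorSec_locally_surjective M N W z x hx
  refine ⟨V, hV, hxV, ?_⟩
  rw [← app_res, ← app_res, ← hw]
  clear hw
  induction w using TensorProduct.induction_on with
  | zero =>
    rw [map_zero]
    have e1 : (θ U hU).app V 0 = 0 := map_zero ((θ U hU).app V).hom
    have e2 : (θ (Y.basicOpen r) (hU.basicOpen r)).app V 0 = 0 :=
      map_zero ((θ (Y.basicOpen r) (hU.basicOpen r)).app V).hom
    rw [e1, e2]
    exact hadd.1 U hU r V
  | tmul a b => exact h U hU r V a b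
  | add w w' hw hw' =>
    rw [map_add]
    have e1 : (θ U hU).app V (tensorSec M N V w + tensorSec M N V w') = _ :=
      map_add ((θ U hU).app V).hom _ _
    have e2 : (θ (Y.basicOpen r) (hU.basicOpen r)).app V (tensorSec M N V w + tensorSec M N V w') = _ :=
      map_add ((θ (Y.basicOpen r) (hU.basicOpen r)).app V).hom _ _
    rw [e1, e2]
    exact hadd.2 U hU r V _ _ _ _ hw hw'

end Groth.Agent.H8.RelTwist
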