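import Groth.Agent.Lib.Helper8.RelTwist.LiftGlue
import Groth.Agent.Lib.Helper8.RelTilde.Glue
import Groth.Agent.Lib.Helper8.GTW.MulHom

/-! # The chart relations of relative twisting sheaves and relative tilde modules. -/

set_option autoImplicit false
universe u
open AlgebraicGeometry CategoryTheory Opposite TopologicalSpace

namespace Groth.Agent.H8.RelTwist

open Groth.Agent.LD.QC Groth.Agent.H8.RelTilde Groth.Agent.H8.ProjTilde

variable {Y P : Scheme.{u}} {𝒮 : RelProj.QCGrAlg Y} {p : P ⟶ Y}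
  {chart : ∀ (U : Y.Opens) (hU : IsAffineOpen U), (((p ⁻¹ᵁ U : P.Opens) : Scheme.{u}) ≅ Proj (𝒮.deg U hU))}

/-- the chart relation of the twisting sheaves `O(n)`: valuewise compatibility through `GrTwist.locMap`. -/
def twistRel (hP : RelProj.IsRelProj 𝒮 p chart) (n : ℤ) :
    ChartRel 𝒮 p chart (fun U hU => GrTwist.twist (𝒮.deg U hU) n) where
  Rel U hU r W tV tD :=
    ∀ (y : ProjectiveSpectrum (𝒮.deg (Y.basicOpen r) (hU.basicOpen r)))
      (hy : (RelProj.emb p chart (Y.basicOpen r) (hU.basicOpen r)).base y ∈ W)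
      (hy' : (RelProj.emb p chart U hU).base (ProjectiveSpectrum.comap
        (𝒮.res hU (hU.basicOpen r) (Y.basicOpen_le r)) (𝒮.irrelevant_le_map U hU r) y) ∈ W),
      GrTwist.val (V := RelProj.emb p chart (Y.basicOpen r) (hU.basicOpen r) ⁻¹ᵁ W) tD ⟨y, hy⟩ =
        GrTwist.locMap (𝒮.res hU (hU.basicOpen r) (Y.basicOpen_le r)) (𝒮.irrelevant_le_map U hU r) y
          (GrTwist.val (V := RelProj.emb p chart U hU ⁻¹ᵁ W) tV ⟨_, hy'⟩)
  res U hU r W W' h tV tD hrel y hy hy' := hrel y (h hy) (h hy')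
  det U hU r W hW tV tD tD' h1 h2 := by
    refine Groth.Agent.H8.GTW.sectN_ext fun y0 => ?_
    obtain ⟨y, hy⟩ : (RelProj.emb p chart (Y.basicOpen r) (hU.basicOpen r) ⁻¹ᵁ W :
      Opens (ProjectiveSpectrum.top (𝒮.deg (Y.basicOpen r) (hU.basicOpen r)))) := y0
    have hy' : (RelProj.emb p chart U hU).base (ProjectiveSpectrum.comap
        (𝒮.res hU (hU.basicOpen r) (Y.basicOpen_le r)) (𝒮.irrelevant_le_map U hU r) y) ∈ W := by
      rw [emb_comap hP]; exact hy
    exact (h1 y hy hy').trans (h2 y hy hy').symm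

/-- the chart relation of the modules `(ℳ(n))~`: valuewise compatibility through `GrMod.locModMap`. -/
def tildeRel (hP : RelProj.IsRelProj 𝒮 p chart) (ℳ : RelProj.GrModule 𝒮) (n : ℤ) :
    ChartRel 𝒮 p chart (fun U hU => GrMod.tilde (𝒮.deg U hU) (ℳ.deg U hU) n) where
  Rel U hU r W tV tD :=
    ∀ (y : ProjectiveSpectrum (𝒮.deg (Y.basicOpen r) (hU.basicOpen r)))
      (hy : (RelProj.emb p chart (Y.basicOpen r) (hU.basicOpen r)).base y ∈ W)
      (hy' : (RelProj.emb p chart U hU).base (ProjectiveSpectrum.comap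
        (𝒮.res hU (hU.basicOpen r) (Y.basicOpen_le r)) (𝒮.irrelevant_le_map U hU r) y) ∈ W),
      GrMod.val (V := RelProj.emb p chart (Y.basicOpen r) (hU.basicOpen r) ⁻¹ᵁ W) tD ⟨y, hy⟩ =
        GrMod.locModMap (𝒮.res hU (hU.basicOpen r) (Y.basicOpen_le r)) (𝒮.irrelevant_le_map U hU r)
          (ℳ.res hU (hU.basicOpen r) (Y.basicOpen_le r)) y
          (GrMod.val (V := RelProj.emb p chart U hU ⁻¹ᵁ W) tV ⟨_, hy'⟩)
  res U hU r W W' h tV tD hrel y hy hy' := hrel y (h hy) (h hy')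
  det U hU r W hW tV tD tD' h1 h2 := by
    refine sect_ext _ _ _ _ fun y0 => ?_
    obtain ⟨y, hy⟩ : (RelProj.emb p chart (Y.basicOpen r) (hU.basicOpen r) ⁻¹ᵁ W :
      Opens (ProjectiveSpectrum.top (𝒮.deg (Y.basicOpen r) (hU.basicOpen r)))) := y0
    have hy' : (RelProj.emb p chart U hU).base (ProjectiveSpectrum.comap
        (𝒮.res hU (hU.basicOpen r) (Y.basicOpen_le r)) (𝒮.irrelevant_le_map U hU r) y) ∈ W := by
      rw [emb_comap hP]; exact hy
    exact (h1 y hy hy').trans (h2 y hy hy').symm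

variable (hP : RelProj.IsRelProj 𝒮 p chart)

lemma compat_of_isRelTwist {n : ℤ} {L : P.Modules}
    {lam : ∀ (U : Y.Opens) (hU : IsAffineOpen U),
      L ⟶ (Scheme.Modules.pushforward (RelProj.emb p chart U hU)).obj (GrTwist.twist (𝒮.deg U hU) n)}
    (hL : RelProj.IsRelTwist 𝒮 p chart n L lam) : Compat (twistRel hP n) L lam :=
  fun U hU r W s y hy hy' => hL.compat U hU r W s y hy hy'

lemma compat_of_isRelTilde {ℳ : RelProj.GrModule 𝒮} {n : ℤ} {F : P.Modules}
    {lam : ∀ (U : Y.Opens) (hU : IsAffineOpen U),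
      F ⟶ (Scheme.Modules.pushforward (RelProj.emb p chart U hU)).obj
        (GrMod.tilde (𝒮.deg U hU) (ℳ.deg U hU) n)}
    (hF : RelProj.IsRelTilde 𝒮 p chart ℳ n F lam) : Compat (tildeRel hP ℳ n) F lam :=
  fun U hU r W s y hy hy' => hF.compat U hU r W s y hy hy'

end Groth.Agent.H8.RelTwist
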