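import Groth.Agent.Lib.Helper8.RelTwist.UnitSec
import Groth.Agent.Lib.Helper8.RelTwist.Rels
import Groth.Agent.Lib.Helper8.RelTwist.RelProps

/-! # Relative twisting sheaves: `O_P(m) ⊗ O_P(n) ≅ O_P(m + n)`. -/

set_option autoImplicit false
universe u
open AlgebraicGeometry CategoryTheory Opposite TopologicalSpace

namespace Groth.Agent.H8.RelTwist

open Groth.Agent.LD.QC Groth.Agent.H8.ProjTilde Groth.Agent.H8.RelTilde Groth.Agent.H8.GTW

variable {Y P : Scheme.{u}} {𝒮 : RelProj.QCGrAlg Y} {p : P ⟶ Y}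
  {chart : ∀ (U : Y.Opens) (hU : IsAffineOpen U), (((p ⁻¹ᵁ U : P.Opens) : Scheme.{u}) ≅ Proj (𝒮.deg U hU))}
  {m n : ℤ} {L L' : P.Modules}
  (lam : ∀ (U : Y.Opens) (hU : IsAffineOpen U),
    L ⟶ (Scheme.Modules.pushforward (RelProj.emb p chart U hU)).obj (GrTwist.twist (𝒮.deg U hU) m))
  (lam' : ∀ (U : Y.Opens) (hU : IsAffineOpen U),
    L' ⟶ (Scheme.Modules.pushforward (RelProj.emb p chart U hU)).obj (GrTwist.twist (𝒮.deg U hU) n))

/-- the chartwise pairing `L(W) × L'(W) → O(m+n)(j⁻¹ W)`. -/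
noncomputable def pairB (U : Y.Opens) (hU : IsAffineOpen U) (W : P.Opens) :
    Γ(L, W) →ₗ[Γ(P, W)] Γ(L', W) →ₗ[Γ(P, W)]
      Γ((Scheme.Modules.pushforward (RelProj.emb p chart U hU)).obj (GrTwist.twist (𝒮.deg U hU) (m + n)), W) :=
  LinearMap.mk₂ Γ(P, W)
    (fun s t => (show Γ((Scheme.Modules.pushforward (RelProj.emb p chart U hU)).obj
        (GrTwist.twist (𝒮.deg U hU) (m + n)), W) from
      mulBilin (𝒮.deg U hU) m n (RelProj.emb p chart U hU ⁻¹ᵁ W)
        ((lam U hU).app W s) ((lam' U hU).app W t)))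
    (fun s s' t => by
      have e : (lam U hU).app W (s + s') = (lam U hU).app W s + (lam U hU).app W s' :=
        map_add ((lam U hU).app W).hom s s'
      change mulBilin (𝒮.deg U hU) m n _ ((lam U hU).app W (s + s')) _ = _
      rw [e]
      exact LinearMap.map_add₂ _ _ _ _)
    (fun r s t => by
      have e := (lam U hU).app_smul r s
      change mulBilin (𝒮.deg U hU) m n _ ((lam U hU).app W (r • s)) _ = _
      rw [e]
      exact LinearMap.map_smul₂ (mulBilin (𝒮.deg U hU) m n (RelProj.emb p chart U hU ⁻¹ᵁ W))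
        (((RelProj.emb p chart U hU).app W).hom r) _ _)
    (fun s t t' => by
      have e : (lam' U hU).app W (t + t') = (lam' U hU).app W t + (lam' U hU).app W t' :=
        map_add ((lam' U hU).app W).hom t t'
      change mulBilin (𝒮.deg U hU) m n _ _ ((lam' U hU).app W (t + t')) = _
      rw [e]
      exact map_add _ _ _)
    (fun r s t => by
      have e := (lam' U hU).app_smul r t
      change mulBilin (𝒮.deg U hU) m n _ _ ((lam' U hU).app W (r • t)) = _
      rw [e]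
      exact map_smul (mulBilin (𝒮.deg U hU) m n (RelProj.emb p chart U hU ⁻¹ᵁ W) _)
        (((RelProj.emb p chart U hU).app W).hom r) _)

lemma pairB_apply (U : Y.Opens) (hU : IsAffineOpen U) (W : P.Opens) (s : Γ(L, W)) (t : Γ(L', W)) :
    pairB lam lam' U hU W s t = mulBilin (𝒮.deg U hU) m n (RelProj.emb p chart U hU ⁻¹ᵁ W)
      ((lam U hU).app W s) ((lam' U hU).app W t) := rfl

/-- the chartwise multiplication `L ⊗ L' ⟶ (j_U)_* O(m + n)`. -/
noncomputable def pairHom (U : Y.Opens) (hU : IsAffineOpen U) :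
    CohB1.tensorMod L L' ⟶
      (Scheme.Modules.pushforward (RelProj.emb p chart U hU)).obj (GrTwist.twist (𝒮.deg U hU) (m + n)) :=
  tensorDescAll L L' _ (pairB lam lam' U hU) (fun W V h s t => by
    rw [pairB_apply, pairB_apply, app_res, app_res]
    rfl)

lemma pairHom_app_tmul (U : Y.Opens) (hU : IsAffineOpen U) (W : P.Opens) (s : Γ(L, W)) (t : Γ(L', W)) :
    (pairHom lam lam' U hU).app W (SecTwist.tmul L L' W s t) = pairB lam lam' U hU W s t :=
  tensorDescAll_app_tmul L L' _ _ _ W s t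

/-- the value of the product is the product of the values. -/
lemma val_pairB (U : Y.Opens) (hU : IsAffineOpen U) (W : P.Opens) (s : Γ(L, W)) (t : Γ(L', W))
    (y : (RelProj.emb p chart U hU ⁻¹ᵁ W : (Proj (𝒮.deg U hU)).Opens)) :
    GrTwist.val (V := RelProj.emb p chart U hU ⁻¹ᵁ W) (pairB lam lam' U hU W s t) y =
      GrTwist.val (V := RelProj.emb p chart U hU ⁻¹ᵁ W) ((lam U hU).app W s) y *
        GrTwist.val (V := RelProj.emb p chart U hU ⁻¹ᵁ W) ((lam' U hU).app W t) y := rfl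

variable {lam lam'}

/-- the chartwise multiplications are compatible. -/
theorem compat_pairHom (hP : RelProj.IsRelProj 𝒮 p chart)
    (hL : RelProj.IsRelTwist 𝒮 p chart m L lam) (hL' : RelProj.IsRelTwist 𝒮 p chart n L' lam') :
    Compat (twistRel hP (m + n)) (CohB1.tensorMod L L') (pairHom lam lam') := by
  apply compat_tensor _ (twistRel_isAdditive hP _) (twistRel_isLocal hP _)
  intro U hU r W a b y hy hy'
  rw [pairHom_app_tmul, pairHom_app_tmul, val_pairB, val_pairB, map_mul]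
  exact congrArg₂ (· * ·) (hL.compat U hU r W a y hy hy') (hL'.compat U hU r W b y hy hy')

variable {L'' : P.Modules}
  {lam'' : ∀ (U : Y.Opens) (hU : IsAffineOpen U),
    L'' ⟶ (Scheme.Modules.pushforward (RelProj.emb p chart U hU)).obj (GrTwist.twist (𝒮.deg U hU) (m + n))}

/-- **the multiplication `O_P(m) ⊗ O_P(n) ⟶ O_P(m + n)`.** -/
theorem exists_mulHom (hP : RelProj.IsRelProj 𝒮 p chart)
    (hL : RelProj.IsRelTwist 𝒮 p chart m L lam) (hL' : RelProj.IsRelTwist 𝒮 p chart n L' lam')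
    (hL'' : RelProj.IsRelTwist 𝒮 p chart (m + n) L'' lam'') :
    ∃ Φ : CohB1.tensorMod L L' ⟶ L'', ∀ (U : Y.Opens) (hU : IsAffineOpen U),
      Φ ≫ lam'' U hU = pairHom lam lam' U hU :=
  (existsUnique_lift (twistRel hP (m + n)) hL''.bijective (compat_of_isRelTwist hP hL'')
    (compat_pairHom hP hL hL')).exists

/-- the multiplication is an isomorphism where both factors have unit sections. -/
theorem isIso_mulHom_of_units
    (hL : RelProj.IsRelTwist 𝒮 p chart m L lam) (hL' : RelProj.IsRelTwist 𝒮 p chart n L' lam')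
    (hL'' : RelProj.IsRelTwist 𝒮 p chart (m + n) L'' lam'')
    (Φ : CohB1.tensorMod L L' ⟶ L'')
    (hΦ : ∀ (U : Y.Opens) (hU : IsAffineOpen U), Φ ≫ lam'' U hU = pairHom lam lam' U hU)
    (h : ∀ x : P, ∃ (U : Y.Opens) (hU : IsAffineOpen U) (W : P.Opens) (_ : W ≤ p ⁻¹ᵁ U) (e : Γ(L, W))
      (e' : Γ(L', W)), x ∈ W ∧
      IsUnitSec (show GrTwist.sectN (𝒜 := 𝒮.deg U hU) m (op (RelProj.emb p chart U hU ⁻¹ᵁ W)) from
        (lam U hU).app W e) ∧
      IsUnitSec (show GrTwist.sectN (𝒜 := 𝒮.deg U hU) n (op (RelProj.emb p chart U hU ⁻¹ᵁ W)) from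
        (lam' U hU).app W e')) : IsIso Φ := by
  apply isIso_of_forall_isBasisOver
  intro x
  obtain ⟨U, hU, W, hW, e, e', hxW, hu, hu'⟩ := h x
  refine ⟨W, SecTwist.tmul L L' W e e', hxW,
    (isBasisOver_of_isUnitSec hL U hU W hW e hu).tmul (isBasisOver_of_isUnitSec hL' U hU W hW e' hu'), ?_⟩
  have key : (lam'' U hU).app W (Φ.app W (SecTwist.tmul L L' W e e')) = pairB lam lam' U hU W e e' :=
    (congrArg (fun φ => φ.app W (SecTwist.tmul L L' W e e')) (hΦ U hU)).trans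
      (pairHom_app_tmul lam lam' U hU W e e')
  have hu'' : IsUnitSec (show GrTwist.sectN (𝒜 := 𝒮.deg U hU) (m + n)
      (op (RelProj.emb p chart U hU ⁻¹ᵁ W)) from pairB lam lam' U hU W e e') := hu.mul hu'
  exact isBasisOver_of_isUnitSec hL'' U hU W hW _ (key.symm ▸ hu'')

/-- over the image of `D₊(g)`, `g` of degree one, every `O_P(k)` has a section reading as a unit section. -/
lemma exists_unit_preimage {k : ℤ} {K : P.Modules}
    {lamK : ∀ (U : Y.Opens) (hU : IsAffineOpen U),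
      K ⟶ (Scheme.Modules.pushforward (RelProj.emb p chart U hU)).obj (GrTwist.twist (𝒮.deg U hU) k)}
    (hK : RelProj.IsRelTwist 𝒮 p chart k K lamK) (U : Y.Opens) (hU : IsAffineOpen U)
    (g : 𝒮.presheaf.obj (op U)) (hg : g ∈ 𝒮.deg U hU 1) (W : P.Opens) (hW : W ≤ p ⁻¹ᵁ U)
    (hle : RelProj.emb p chart U hU ⁻¹ᵁ W ≤ Proj.basicOpen (𝒮.deg U hU) g) :
    ∃ e : Γ(K, W), IsUnitSec (show GrTwist.sectN (𝒜 := 𝒮.deg U hU) k
      (op (RelProj.emb p chart U hU ⁻¹ᵁ W)) from (lamK U hU).app W e) := by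
  obtain ⟨u, hu⟩ := exists_isUnitSec_one (𝒜 := 𝒮.deg U hU) g hg k
    (V := RelProj.emb p chart U hU ⁻¹ᵁ W) hle
  obtain ⟨e, he⟩ := (hK.bijective U hU W hW).2 u
  exact ⟨e, he.symm ▸ hu⟩

/-- **`O_P(m) ⊗ O_P(n) ≅ O_P(m + n)`** when `𝒮` is generated in degree one. -/
theorem nonempty_tensor_iso (hP : RelProj.IsRelProj 𝒮 p chart) (hgen : 𝒮.IsGenDegOne)
    (hL : RelProj.IsRelTwist 𝒮 p chart m L lam) (hL' : RelProj.IsRelTwist 𝒮 p chart n L' lam')
    (hL'' : RelProj.IsRelTwist 𝒮 p chart (m + n) L'' lam'') :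
    Nonempty (CohB1.tensorMod L L' ≅ L'') := by
  obtain ⟨Φ, hΦ⟩ := exists_mulHom hP hL hL' hL''
  haveI : IsIso Φ := by
    apply isIso_mulHom_of_units hL hL' hL'' Φ hΦ
    intro x
    have hx' : x ∈ (⨆ U : Y.affineOpens, (RelProj.emb p chart U.1 U.2).opensRange) := by
      rw [(isOpenCover_emb 𝒮 p chart).iSup_eq_top]; trivial
    obtain ⟨U, z, rfl⟩ := Opens.mem_iSup.mp hx'
    obtain ⟨g, hg1, hzg⟩ := exists_mem_basicOpen_of_span
      (irrelevant_eq_span_degOne (𝒮.deg U.1 U.2) (hgen U.1 U.2)) z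
    have hWU : RelProj.emb p chart U.1 U.2 ''ᵁ (Proj.basicOpen (𝒮.deg U.1 U.2) g) ≤ p ⁻¹ᵁ U.1 := by
      rw [← opensRange_emb 𝒮 p chart U.1 U.2]
      rintro _ ⟨y, -, rfl⟩
      exact ⟨y, rfl⟩
    have hle : RelProj.emb p chart U.1 U.2 ⁻¹ᵁ
        (RelProj.emb p chart U.1 U.2 ''ᵁ (Proj.basicOpen (𝒮.deg U.1 U.2) g)) ≤
        Proj.basicOpen (𝒮.deg U.1 U.2) g := by
      rintro y ⟨y', hy', hyy⟩
      rwa [← (RelProj.emb p chart U.1 U.2).isOpenEmbedding.injective hyy]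
    obtain ⟨e, he⟩ := exists_unit_preimage hL U.1 U.2 g hg1 _ hWU hle
    obtain ⟨e', he'⟩ := exists_unit_preimage hL' U.1 U.2 g hg1 _ hWU hle
    exact ⟨U.1, U.2, _, hWU, e, e', ⟨z, hzg, rfl⟩, he, he'⟩
  exact ⟨asIso Φ⟩

end Groth.Agent.H8.RelTwist
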