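import Groth.Agent.Lib.Helper8.RelTwist.MapTwist5
import Groth.Agent.Lib.Helper8.RelTwist.Tensor
import Groth.Agent.Lib.Lead.QC.PullInv
import Groth.Agent.Lib.Lead.QC.Counit

/-! # `h^* O_{Proj 𝒜}(n) ≅ O_{Proj ℬ}(n)` for a morphism of relative Proj's, `𝒜` generated in degree one. -/

set_option autoImplicit false
universe u
open AlgebraicGeometry CategoryTheory Opposite TopologicalSpace
open scoped HomogeneousIdeal

namespace Groth.Agent.H8.RelTwist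

open Groth.Agent.LD.QC Groth.Agent.H8.RelTilde Groth.Agent.H8.ProjTilde Groth.Agent.H8.GTW

section ring
variable {A σ : Type u} [CommRing A] [SetLike σ A] [AddSubgroupClass σ A] {𝒜 : ℕ → σ} [GradedRing 𝒜]
variable {B τ : Type u} [CommRing B] [SetLike τ B] [AddSubgroupClass τ B] {ℬ : ℕ → τ} [GradedRing ℬ]
variable (ψ : 𝒜 →+*ᵍ ℬ) (hψ : ℬ₊ ≤ (𝒜₊).map ψ)

/-- the comap of a unit section is a unit section. -/
lemma IsUnitSec.comapApp {n : ℤ} {U : Opens (ProjectiveSpectrum.top 𝒜)} {V : Opens (ProjectiveSpectrum.top ℬ)}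
    (hUV : V.1 ⊆ ProjectiveSpectrum.comap ψ hψ ⁻¹' U.1) {u : GrTwist.sectN (𝒜 := 𝒜) n (op U)}
    (hu : IsUnitSec u) : IsUnitSec (GrTwist.comapApp ψ hψ n U V hUV u) := by
  obtain ⟨v, hv⟩ := hu
  refine ⟨GrTwist.comapApp ψ hψ (-n) U V hUV v, fun y => ?_⟩
  rw [GrTwist.comapApp_apply_coe, GrTwist.comapApp_apply_coe, ← map_mul, hv, map_one]

end ring

section adj
variable {X X' : Scheme.{u}} (g : X' ⟶ X) {M : X.Modules} {N : X'.Modules}

/-- the adjoint of a map `M ⟶ g_* N` on pulled back sections. -/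
lemma adj_symm_app_pbSec (θ : M ⟶ (Scheme.Modules.pushforward g).obj N) (W : X.Opens) (e : Γ(M, W)) :
    (((Scheme.Modules.pullbackPushforwardAdjunction g).homEquiv _ _).symm θ).app (g ⁻¹ᵁ W)
      (pbSec g M le_rfl e) = θ.app W e := by
  rw [Adjunction.homEquiv_counit]
  change ((Scheme.Modules.pullbackPushforwardAdjunction g).counit.app N).app (g ⁻¹ᵁ W)
    (((Scheme.Modules.pullback g).map θ).app (g ⁻¹ᵁ W) (pbSec g M le_rfl e)) = _
  rw [pbSec_naturality, counit_pbSec]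
  change N.presheaf.map (𝟙 _) _ = _
  rw [N.presheaf.map_id]; rfl

end adj


section main
variable {Y PA PB : Scheme.{u}} {𝒜 ℬ : RelProj.QCGrAlg Y}
  {φ : 𝒜.toQCAlg ⟶ ℬ.toQCAlg} {hφ : RelProj.IsGradedHom φ}
  {hirr : ∀ (U : Y.Opens) (hU : IsAffineOpen U),
    (ℬ.deg U hU)₊ ≤ ((𝒜.deg U hU)₊).map (RelProj.gradedHomAt φ hφ U hU)}
  {pA : PA ⟶ Y} {pB : PB ⟶ Y}
  {chartA : ∀ (U : Y.Opens) (hU : IsAffineOpen U), (((pA ⁻¹ᵁ U : PA.Opens) : Scheme.{u}) ≅ Proj (𝒜.deg U hU))}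
  {chartB : ∀ (U : Y.Opens) (hU : IsAffineOpen U), (((pB ⁻¹ᵁ U : PB.Opens) : Scheme.{u}) ≅ Proj (ℬ.deg U hU))}
  {h : PB ⟶ PA} {n : ℤ} {LA : PA.Modules} {LB : PB.Modules}
  {lamA : ∀ (U : Y.Opens) (hU : IsAffineOpen U),
    LA ⟶ (Scheme.Modules.pushforward (RelProj.emb pA chartA U hU)).obj (GrTwist.twist (𝒜.deg U hU) n)}
  {lamB : ∀ (U : Y.Opens) (hU : IsAffineOpen U),
    LB ⟶ (Scheme.Modules.pushforward (RelProj.emb pB chartB U hU)).obj (GrTwist.twist (ℬ.deg U hU) n)}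

/-- the comparison map sends sections reading as unit sections to sections reading as unit sections. -/
lemma isUnitSec_comparison (hh : RelProj.IsRelProjMap φ hφ hirr chartA chartB h)
    (θ : LA ⟶ (Scheme.Modules.pushforward h).obj LB)
    (hθ : IsComparison (φ := φ) (hφ := hφ) (hirr := hirr) (lamA := lamA) (lamB := lamB) θ)
    (U : Y.Opens) (hU : IsAffineOpen U) (W : PA.Opens) (e : Γ(LA, W))
    (hu : IsUnitSec (show GrTwist.sectN (𝒜 := 𝒜.deg U hU) n (op (RelProj.emb pA chartA U hU ⁻¹ᵁ W)) from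
      (lamA U hU).app W e)) :
    IsUnitSec (show GrTwist.sectN (𝒜 := ℬ.deg U hU) n (op (RelProj.emb pB chartB U hU ⁻¹ᵁ (h ⁻¹ᵁ W))) from
      (lamB U hU).app (h ⁻¹ᵁ W) (θ.app W e)) := by
  have hUV : (RelProj.emb pB chartB U hU ⁻¹ᵁ (h ⁻¹ᵁ W)).1 ⊆
      ProjectiveSpectrum.comap (RelProj.gradedHomAt φ hφ U hU) (hirr U hU) ⁻¹'
        (RelProj.emb pA chartA U hU ⁻¹ᵁ W).1 := by
    intro y hy
    change (RelProj.emb pA chartA U hU).base _ ∈ W
    rw [← h_embB hh]; exact hy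
  refine IsUnitSec.of_val_eq (IsUnitSec.comapApp (RelProj.gradedHomAt φ hφ U hU) (hirr U hU) hUV hu)
    fun y => ?_
  exact hθ U hU W e y.1 y.2 (hUV y.2)

/-- **the adjoint `h^* O_{Proj 𝒜}(n) ⟶ O_{Proj ℬ}(n)` of the comparison map is an isomorphism** when `𝒜` is
generated in degree one. -/
theorem isIso_adjoint_comparison (hA : RelProj.IsRelProj 𝒜 pA chartA) (hB : RelProj.IsRelProj ℬ pB chartB)
    (hh : RelProj.IsRelProjMap φ hφ hirr chartA chartB h) (hgen : 𝒜.IsGenDegOne)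
    (hLA : RelProj.IsRelTwist 𝒜 pA chartA n LA lamA) (hLB : RelProj.IsRelTwist ℬ pB chartB n LB lamB)
    (θ : LA ⟶ (Scheme.Modules.pushforward h).obj LB)
    (hθ : IsComparison (φ := φ) (hφ := hφ) (hirr := hirr) (lamA := lamA) (lamB := lamB) θ) :
    IsIso (((Scheme.Modules.pullbackPushforwardAdjunction h).homEquiv _ _).symm θ) := by
  have : LA.IsQuasicoherent := relTwist_isQuasicoherent hLA
  apply isIso_of_forall_isBasisOver
  intro x
  have hx' : x ∈ (⨆ U : Y.affineOpens, (RelProj.emb pB chartB U.1 U.2).opensRange) := by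
    rw [(isOpenCover_emb ℬ pB chartB).iSup_eq_top]; trivial
  obtain ⟨U, z, rfl⟩ := Opens.mem_iSup.mp hx'
  obtain ⟨g, hg1, hzg⟩ := exists_mem_basicOpen_of_span
    (irrelevant_eq_span_degOne (𝒜.deg U.1 U.2) (hgen U.1 U.2))
    (ProjectiveSpectrum.comap (RelProj.gradedHomAt φ hφ U.1 U.2) (hirr U.1 U.2) z)
  have hWU : RelProj.emb pA chartA U.1 U.2 ''ᵁ (Proj.basicOpen (𝒜.deg U.1 U.2) g) ≤ pA ⁻¹ᵁ U.1 := by
    rw [← opensRange_emb 𝒜 pA chartA U.1 U.2]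
    rintro _ ⟨y, -, rfl⟩
    exact ⟨y, rfl⟩
  have hle : RelProj.emb pA chartA U.1 U.2 ⁻¹ᵁ
      (RelProj.emb pA chartA U.1 U.2 ''ᵁ (Proj.basicOpen (𝒜.deg U.1 U.2) g)) ≤
      Proj.basicOpen (𝒜.deg U.1 U.2) g := by
    rintro y ⟨y', hy', hyy⟩
    rwa [← (RelProj.emb pA chartA U.1 U.2).isOpenEmbedding.injective hyy]
  obtain ⟨e, he⟩ := exists_unit_preimage hLA U.1 U.2 g hg1 _ hWU hle
  have hWB : h ⁻¹ᵁ (RelProj.emb pA chartA U.1 U.2 ''ᵁ (Proj.basicOpen (𝒜.deg U.1 U.2) g)) ≤ pB ⁻¹ᵁ U.1 := by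
    intro x hx
    have := hWU hx
    rw [← Groth.Agent.H4.RelProjLib.relProjMap_over φ hφ hirr hA hB hh]
    exact this
  refine ⟨h ⁻¹ᵁ (RelProj.emb pA chartA U.1 U.2 ''ᵁ (Proj.basicOpen (𝒜.deg U.1 U.2) g)),
    pbSec h LA le_rfl e, ?_, ?_, ?_⟩
  · change h.base _ ∈ RelProj.emb pA chartA U.1 U.2 ''ᵁ (Proj.basicOpen (𝒜.deg U.1 U.2) g)
    rw [h_embB hh]
    exact ⟨_, hzg, rfl⟩
  · exact (isBasisOver_of_isUnitSec hLA U.1 U.2 _ hWU e he).pullback h le_rfl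
  · rw [adj_symm_app_pbSec]
    exact isBasisOver_of_isUnitSec hLB U.1 U.2 _ hWB _ (isUnitSec_comparison hh θ hθ U.1 U.2 _ e he)

/-- **`h^* O_{Proj 𝒜}(n) ≅ O_{Proj ℬ}(n)`**. -/
theorem nonempty_pullback_iso (hA : RelProj.IsRelProj 𝒜 pA chartA) (hB : RelProj.IsRelProj ℬ pB chartB)
    (hh : RelProj.IsRelProjMap φ hφ hirr chartA chartB h) (hgen : 𝒜.IsGenDegOne)
    (hLA : RelProj.IsRelTwist 𝒜 pA chartA n LA lamA) (hLB : RelProj.IsRelTwist ℬ pB chartB n LB lamB) :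
    Nonempty ((Scheme.Modules.pullback h).obj LA ≅ LB) := by
  obtain ⟨θ, hθ, -⟩ := existsUnique_comparison hA hB hh hLA hLB
  have := isIso_adjoint_comparison hA hB hh hgen hLA hLB θ hθ
  exact ⟨asIso (((Scheme.Modules.pullbackPushforwardAdjunction h).homEquiv _ _).symm θ)⟩

end main

end Groth.Agent.H8.RelTwist
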