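import Groth.Agent.Lib.Helper8.RelTwist.BasicOpen

/-! # Relative twisting sheaves: `X_f` is the locus where the section `f` of `O_P(d)` generates. -/

set_option autoImplicit false
universe u
open AlgebraicGeometry CategoryTheory Opposite TopologicalSpace

namespace Groth.Agent.H8.RelTwist

open Groth.Agent.LD.QC Groth.Agent.H8.ProjTilde Groth.Agent.H8.RelTilde Groth.Agent.H8.GTW

variable {Y P : Scheme.{u}} {𝒮 : RelProj.QCGrAlg Y} {p : P ⟶ Y}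
  {chart : ∀ (U : Y.Opens) (hU : IsAffineOpen U), (((p ⁻¹ᵁ U : P.Opens) : Scheme.{u}) ≅ Proj (𝒮.deg U hU))}

section
variable {d : ℕ} (f : 𝒮.presheaf.obj (op ⊤))
  (hf : ∀ (U : Y.Opens) (hU : IsAffineOpen U), resTop 𝒮 f U ∈ 𝒮.deg U hU d)
  {L : P.Modules}
  {lam : ∀ (U : Y.Opens) (hU : IsAffineOpen U),
    L ⟶ (Scheme.Modules.pushforward (RelProj.emb p chart U hU)).obj (GrTwist.twist (𝒮.deg U hU) (d : ℤ))}
  (s : Coh.structureModule P ⟶ L)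
  (hs : ∀ (U : Y.Opens) (hU : IsAffineOpen U) (y : Proj (𝒮.deg U hU)),
    GrTwist.val (V := RelProj.emb p chart U hU ⁻¹ᵁ ⊤)
      ((lam U hU).app ⊤ (s.app ⊤ (show Γ(Coh.structureModule P, ⊤) from (1 : Γ(P, ⊤))))) ⟨y, Set.mem_univ _⟩ =
      Localization.mk (resTop 𝒮 f U) 1)

include hs in
/-- the values of the section `s` read in a chart. -/
lemma val_lam_secVal (W : P.Opens) (U : Y.Opens) (hU : IsAffineOpen U)
    (y : (RelProj.emb p chart U hU ⁻¹ᵁ W : (Proj (𝒮.deg U hU)).Opens)) :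
    GrTwist.val (V := RelProj.emb p chart U hU ⁻¹ᵁ W) ((lam U hU).app W (SecTwist.val s W)) y =
      Localization.mk (resTop 𝒮 f U) 1 := by
  have h1 : SecTwist.val s W = L.presheaf.map (homOfLE (le_top : W ≤ ⊤)).op (SecTwist.val s ⊤) :=
    (SecTwist.map_val s (homOfLE (le_top : W ≤ ⊤))).symm
  rw [h1, app_res]
  exact hs U hU y.1

end

section
variable (hP : RelProj.IsRelProj 𝒮 p chart) {d : ℕ} (f : 𝒮.presheaf.obj (op ⊤))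
  (hf : ∀ (U : Y.Opens) (hU : IsAffineOpen U), resTop 𝒮 f U ∈ 𝒮.deg U hU d)
  (Xf : P.Opens)
  (hXf : ∀ (U : Y.Opens) (hU : IsAffineOpen U),
    Xf ⊓ p ⁻¹ᵁ U =
      (p ⁻¹ᵁ U).ι ''ᵁ ((chart U hU).hom ⁻¹ᵁ Proj.basicOpen (𝒮.deg U hU) (resTop 𝒮 f U)))
  {L : P.Modules}
  {lam : ∀ (U : Y.Opens) (hU : IsAffineOpen U),
    L ⟶ (Scheme.Modules.pushforward (RelProj.emb p chart U hU)).obj (GrTwist.twist (𝒮.deg U hU) (d : ℤ))}
  (hL : RelProj.IsRelTwist 𝒮 p chart (d : ℤ) L lam)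
  (s : Coh.structureModule P ⟶ L)
  (hs : ∀ (U : Y.Opens) (hU : IsAffineOpen U) (y : Proj (𝒮.deg U hU)),
    GrTwist.val (V := RelProj.emb p chart U hU ⁻¹ᵁ ⊤)
      ((lam U hU).app ⊤ (s.app ⊤ (show Γ(Coh.structureModule P, ⊤) from (1 : Γ(P, ⊤))))) ⟨y, Set.mem_univ _⟩ =
      Localization.mk (resTop 𝒮 f U) 1)

include hf hXf hL hs in
theorem Xf_le_genLocus : Xf ≤ CohB1.genLocus L s := by
  intro x hx
  rw [mem_genLocus_iff]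
  have hx' : p.base x ∈ (⊤ : Y.Opens) := trivial
  rw [← iSup_affineOpens_eq_top Y] at hx'
  obtain ⟨U, hU⟩ := Opens.mem_iSup.mp hx'
  refine ⟨Xf ⊓ p ⁻¹ᵁ U.1, ⟨hx, hU⟩, ?_⟩
  apply isBasisOver_of_isUnitSec hL U.1 U.2 _ inf_le_right
  have hle : RelProj.emb p chart U.1 U.2 ⁻¹ᵁ (Xf ⊓ p ⁻¹ᵁ U.1) ≤
      Proj.basicOpen (𝒮.deg U.1 U.2) (resTop 𝒮 f U.1) := by
    rw [← preimage_Xf f Xf hXf U.1 U.2]
    exact (RelProj.emb p chart U.1 U.2).preimage_mono inf_le_left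
  refine IsUnitSec.of_val_eq (isUnitSec_fracSec (𝒜 := 𝒮.deg U.1 U.2)
    ⟨resTop 𝒮 f U.1, hf U.1 U.2⟩ ⟨1, SetLike.GradedOne.one_mem⟩ (d : ℤ) (by simp)
    (RelProj.emb p chart U.1 U.2 ⁻¹ᵁ (Xf ⊓ p ⁻¹ᵁ U.1))
    (fun x h => x.1.isPrime.ne_top ((Ideal.eq_top_iff_one _).mpr h))
    (fun x h => hle x.2 h)) (fun y => ?_)
  exact val_lam_secVal f s hs _ U.1 U.2 y

include hXf hL hs in
theorem genLocus_le_Xf (hgen : 𝒮.IsGenDegOne) : CohB1.genLocus L s ≤ Xf := by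
  intro x hx
  obtain ⟨W, hxW, hW⟩ := (mem_genLocus_iff L s x).mp hx
  have hx' : x ∈ (⨆ U : Y.affineOpens, (RelProj.emb p chart U.1 U.2).opensRange) := by
    rw [(isOpenCover_emb 𝒮 p chart).iSup_eq_top]; trivial
  obtain ⟨U, z, rfl⟩ := Opens.mem_iSup.mp hx'
  obtain ⟨g, hg1, hzg⟩ := exists_mem_basicOpen_of_span
    (irrelevant_eq_span_degOne (𝒮.deg U.1 U.2) (hgen U.1 U.2)) z
  -- the open on which we compare
  set j := RelProj.emb p chart U.1 U.2 with hj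
  set W' : P.Opens := W ⊓ j ''ᵁ (Proj.basicOpen (𝒮.deg U.1 U.2) g) with hW'
  have hW'W : W' ≤ W := inf_le_left
  have hW'U : W' ≤ p ⁻¹ᵁ U.1 := by
    refine inf_le_right.trans ?_
    rw [← opensRange_emb 𝒮 p chart U.1 U.2]
    rintro _ ⟨y, -, rfl⟩
    exact ⟨y, rfl⟩
  have hzW' : z ∈ j ⁻¹ᵁ W' := ⟨hxW, z, hzg, rfl⟩
  have hle : j ⁻¹ᵁ W' ≤ Proj.basicOpen (𝒮.deg U.1 U.2) g := by
    rintro y ⟨-, y', hy', hyy⟩
    rwa [← j.isOpenEmbedding.injective hyy]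
  -- the section `g^d / 1` over `W'`
  have hgd : g ^ d ∈ 𝒮.deg U.1 U.2 (d • 1) := SetLike.pow_mem_graded d hg1
  let tg : GrTwist.sectN (𝒜 := 𝒮.deg U.1 U.2) (d : ℤ) (op (j ⁻¹ᵁ W')) :=
    fracSec (𝒜 := 𝒮.deg U.1 U.2) ⟨g ^ d, hgd⟩ ⟨1, SetLike.GradedOne.one_mem⟩ (d : ℤ) (by simp)
      (j ⁻¹ᵁ W') (fun x h => x.1.isPrime.ne_top ((Ideal.eq_top_iff_one _).mpr h))
  obtain ⟨γ, hγ⟩ := (hL.bijective U.1 U.2 W' hW'U).2 tg
  obtain ⟨a, ha⟩ := (hW W' hW'W).2 γ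
  -- evaluate at `z`
  have h1 : (lam U.1 U.2).app W' (a • L.presheaf.map (homOfLE hW'W).op (SecTwist.val s W)) = tg := by
    rw [← hγ]; exact congrArg _ ha
  rw [Scheme.Modules.Hom.app_smul, app_res] at h1
  have h2 := congrArg (fun t : Γ(GrTwist.twist (𝒮.deg U.1 U.2) (d : ℤ), j ⁻¹ᵁ W') =>
    (((show GrTwist.sectN (𝒜 := 𝒮.deg U.1 U.2) (d : ℤ) (op (j ⁻¹ᵁ W')) from t).1 ⟨z, hzW'⟩ :
      GrTwist.twistAt (𝒮.deg U.1 U.2) (d : ℤ) z) : GrTwist.Loc (𝒮.deg U.1 U.2) z)) h1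
  have h3 := smul_sec_val (𝒜 := 𝒮.deg U.1 U.2) (k := (d : ℤ)) (W := j ⁻¹ᵁ W') ((j.app W').hom a)
    ((GrTwist.twist (𝒮.deg U.1 U.2) (d : ℤ)).presheaf.map (homOfLE (j.preimage_mono hW'W)).op
      (show Γ(GrTwist.twist (𝒮.deg U.1 U.2) (d : ℤ), j ⁻¹ᵁ W) from
        (lam U.1 U.2).app W (SecTwist.val s W))) ⟨z, hzW'⟩
  have h4 := val_lam_secVal f s hs W U.1 U.2 ⟨z, hxW⟩
  have hfu : IsUnit (Localization.mk (resTop 𝒮 f U.1) 1 : GrTwist.Loc (𝒮.deg U.1 U.2) z) := by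
    have hgu : IsUnit (Localization.mk (g ^ d) 1 : GrTwist.Loc (𝒮.deg U.1 U.2) z) := by
      rw [Localization.mk_one_eq_algebraMap,
        IsLocalization.AtPrime.isUnit_to_map_iff (GrTwist.Loc (𝒮.deg U.1 U.2) z) z.asHomogeneousIdeal.toIdeal]
      intro hmem
      exact hzg (z.isPrime.mem_of_pow_mem d hmem)
    have e : ((show GrTwist.O (𝒜 := 𝒮.deg U.1 U.2) (op (j ⁻¹ᵁ W')) from (j.app W').hom a).1 ⟨z, hzW'⟩).val *
        (Localization.mk (resTop 𝒮 f U.1) 1 : GrTwist.Loc (𝒮.deg U.1 U.2) z) = Localization.mk (g ^ d) 1 := by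
      rw [← h4]
      exact h3.symm.trans h2
    rw [← e] at hgu
    exact isUnit_of_mul_isUnit_right hgu
  rw [Localization.mk_one_eq_algebraMap,
    IsLocalization.AtPrime.isUnit_to_map_iff (GrTwist.Loc (𝒮.deg U.1 U.2) z) z.asHomogeneousIdeal.toIdeal] at hfu
  have hz : z ∈ RelProj.emb p chart U.1 U.2 ⁻¹ᵁ Xf := by
    rw [preimage_Xf f Xf hXf U.1 U.2]
    exact hfu
  exact hz

end

end Groth.Agent.H8.RelTwist
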