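import Groth.Agent.Lib.Helper8.RelTwist.UnitSec
import Groth.Agent.Lib.Helper8.RelTwist.Rels
import Groth.Agent.Lib.Helper8.GTW.Zero

/-! # The structure sheaf of a relative Proj is `O_P(0)`. -/

set_option autoImplicit false
universe u
open AlgebraicGeometry CategoryTheory Opposite TopologicalSpace

namespace Groth.Agent.H8.RelTwist

open Groth.Agent.LD.QC Groth.Agent.H8.ProjTilde Groth.Agent.H8.RelTilde Groth.Agent.H8.GTW

section ring
variable {A σ : Type u} [CommRing A] [SetLike σ A] [AddSubgroupClass σ A] {𝒜 : ℕ → σ} [GradedRing 𝒜]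

lemma ofO_one_res {V V' : (Proj 𝒜).Opens} (h : V' ≤ V) :
    (GrTwist.twist 𝒜 0).presheaf.map (homOfLE h).op
      (show Γ(GrTwist.twist 𝒜 0, V) from ofO (𝒜 := 𝒜) (op V) 1) =
      (show Γ(GrTwist.twist 𝒜 0, V') from ofO (𝒜 := 𝒜) (op V') 1) := by
  change (show GrTwist.sectN (𝒜 := 𝒜) 0 (op V') from _) = ofO (𝒜 := 𝒜) (op V') 1
  refine sectN_ext fun x => ?_
  rw [ofO_val]
  exact (HomogeneousLocalization.val_one (𝒜 := 𝒜)).trans (HomogeneousLocalization.val_one (𝒜 := 𝒜)).symm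

end ring

variable {Y P : Scheme.{u}} {𝒮 : RelProj.QCGrAlg Y} {p : P ⟶ Y}
  {chart : ∀ (U : Y.Opens) (hU : IsAffineOpen U), (((p ⁻¹ᵁ U : P.Opens) : Scheme.{u}) ≅ Proj (𝒮.deg U hU))}

variable (𝒮 p chart) in
/-- the chartwise identification of the structure sheaf with `O(0)`. -/
noncomputable def lam0 (U : Y.Opens) (hU : IsAffineOpen U) :
    unitMod P ⟶ (Scheme.Modules.pushforward (RelProj.emb p chart U hU)).obj (GrTwist.twist (𝒮.deg U hU) 0) :=
  homOfSection _ (show Γ((Scheme.Modules.pushforward (RelProj.emb p chart U hU)).obj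
    (GrTwist.twist (𝒮.deg U hU) 0), ⊤) from ofO (𝒜 := 𝒮.deg U hU) (op (RelProj.emb p chart U hU ⁻¹ᵁ ⊤)) 1)

lemma lam0_app (U : Y.Opens) (hU : IsAffineOpen U) (W : P.Opens) (a : Γ(P, W)) :
    (show GrTwist.sectN (𝒜 := 𝒮.deg U hU) 0 (op (RelProj.emb p chart U hU ⁻¹ᵁ W)) from
      (lam0 𝒮 p chart U hU).app W a) =
      ofO (𝒜 := 𝒮.deg U hU) (op (RelProj.emb p chart U hU ⁻¹ᵁ W)) (((RelProj.emb p chart U hU).app W).hom a) := by
  have h1 := unitHom_app _ (lam0 𝒮 p chart U hU) W a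
  have h2 := homOfSection_app_one ((Scheme.Modules.pushforward (RelProj.emb p chart U hU)).obj
    (GrTwist.twist (𝒮.deg U hU) 0)) (show Γ((Scheme.Modules.pushforward (RelProj.emb p chart U hU)).obj
    (GrTwist.twist (𝒮.deg U hU) 0), ⊤) from ofO (𝒜 := 𝒮.deg U hU) (op (RelProj.emb p chart U hU ⁻¹ᵁ ⊤)) 1) W
  have h3 : (lam0 𝒮 p chart U hU).app W (1 : Γ(P, W)) =
      (show Γ(GrTwist.twist (𝒮.deg U hU) 0, RelProj.emb p chart U hU ⁻¹ᵁ W) from
        ofO (𝒜 := 𝒮.deg U hU) (op (RelProj.emb p chart U hU ⁻¹ᵁ W)) 1) :=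
    h2.trans (ofO_one_res ((RelProj.emb p chart U hU).preimage_mono (le_top : W ≤ ⊤)))
  rw [h3] at h1
  refine h1.trans ?_
  have h4 := ofO_mul (𝒜 := 𝒮.deg U hU) (op (RelProj.emb p chart U hU ⁻¹ᵁ W))
    (((RelProj.emb p chart U hU).app W).hom a) 1
  rw [mul_one] at h4
  exact h4.symm

section transport
variable {B τ : Type u} [CommRing B] [SetLike τ B] [AddSubgroupClass τ B] {ℬ : ℕ → τ} [GradedRing ℬ]

/-- the values of the pullback of a function along equal morphisms agree. -/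
lemma app_val_congr (φ φ' : Proj ℬ ⟶ P) (h : φ = φ') (W : P.Opens) (a : Γ(P, W))
    (y : ProjectiveSpectrum ℬ) (hy : φ.base y ∈ W) (hy' : φ'.base y ∈ W) :
    (show GrTwist.O (𝒜 := ℬ) (op (φ ⁻¹ᵁ W)) from (φ.app W).hom a).1 ⟨y, hy⟩ =
      (show GrTwist.O (𝒜 := ℬ) (op (φ' ⁻¹ᵁ W)) from (φ'.app W).hom a).1 ⟨y, hy'⟩ := by
  subst h
  rfl

end transport

/-- **the structure sheaf of a relative Proj is `O_P(0)`.** -/
theorem isRelTwist_zero (hP : RelProj.IsRelProj 𝒮 p chart) :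
    RelProj.IsRelTwist 𝒮 p chart 0 (unitMod P) (lam0 𝒮 p chart) where
  bijective U hU W hW := by
    have hWr : W ≤ (RelProj.emb p chart U hU).opensRange := by
      rw [opensRange_emb]; exact hW
    haveI := (RelProj.emb p chart U hU).isIso_app W hWr
    have hj : Function.Bijective ((RelProj.emb p chart U hU).app W).hom :=
      (ConcreteCategory.isIso_iff_bijective ((RelProj.emb p chart U hU).app W)).mp inferInstance
    have hfun : ⇑(ConcreteCategory.hom ((lam0 𝒮 p chart U hU).app W)) =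
        (fun c => (show Γ((Scheme.Modules.pushforward (RelProj.emb p chart U hU)).obj
          (GrTwist.twist (𝒮.deg U hU) 0), W) from
          ofO (𝒜 := 𝒮.deg U hU) (op (RelProj.emb p chart U hU ⁻¹ᵁ W)) c)) ∘
          ((RelProj.emb p chart U hU).app W).hom := funext fun a => lam0_app U hU W a
    rw [hfun]
    have hb : Function.Bijective (ofO (𝒜 := 𝒮.deg U hU) (op (RelProj.emb p chart U hU ⁻¹ᵁ W))) :=
      ⟨ofO_injective _, ofO_surjective _⟩
    exact hb.comp hj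
  compat U hU r W a y hy hy' := by
    have e1 := congrArg (fun t : GrTwist.sectN (𝒜 := 𝒮.deg (Y.basicOpen r) (hU.basicOpen r)) 0
        (op (RelProj.emb p chart (Y.basicOpen r) (hU.basicOpen r) ⁻¹ᵁ W)) => ((t.1 ⟨y, hy⟩).1 :
        GrTwist.Loc (𝒮.deg (Y.basicOpen r) (hU.basicOpen r)) y))
      (lam0_app (Y.basicOpen r) (hU.basicOpen r) W a)
    have e2 := congrArg (fun t : GrTwist.sectN (𝒜 := 𝒮.deg U hU) 0
        (op (RelProj.emb p chart U hU ⁻¹ᵁ W)) => ((t.1 ⟨_, hy'⟩).1 : GrTwist.Loc (𝒮.deg U hU) _))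
      (lam0_app U hU W a)
    refine e1.trans ?_
    refine Eq.trans ?_ (congrArg _ e2.symm)
    rw [ofO_val, ofO_val]
    have hy2 : (Proj.map (𝒮.res hU (hU.basicOpen r) (Y.basicOpen_le r)) (𝒮.irrelevant_le_map U hU r) ≫
        RelProj.emb p chart U hU).base y ∈ W := hy'
    have e3 := app_val_congr _ _ (RelProj.map_res_emb hP U hU r).symm W a y hy hy2
    rw [e3]
    exact HomogeneousLocalization.val_localRingHom _

end Groth.Agent.H8.RelTwist
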