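import Groth.Agent.Lib.Helper8.GTW.Deg1
import Groth.Agent.Lib.Helper8.RelTilde.TN
import Groth.Agent.Lib.Lead.QC.RestrictOpen
import Groth.Agent.Lib.Lead.QC.AmpleIso

/-! # Relative twisting sheaves: invertibility. -/

set_option autoImplicit false
universe u
open AlgebraicGeometry CategoryTheory Opposite TopologicalSpace

namespace Groth.Agent.H8.RelTwist

open Groth.Agent.LD.QC Groth.Agent.H8.ProjTilde Groth.Agent.H8.RelTilde

section ring
variable {A σ : Type u} [CommRing A] [SetLike σ A] [AddSubgroupClass σ A] (𝒜 : ℕ → σ) [GradedRing 𝒜]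

/-- generation by degrees `0` and `1`: the irrelevant ideal is generated by the degree one part. -/
lemma irrelevant_eq_span_degOne (hgen : Subring.closure ((𝒜 0 : Set A) ∪ (𝒜 1 : Set A)) = ⊤) :
    (HomogeneousIdeal.irrelevant 𝒜).toIdeal = Ideal.span (𝒜 1 : Set A) := by
  apply le_antisymm
  · have hadj : Algebra.adjoin (𝒜 0) (Set.range fun t : (𝒜 1 : Set A) => (t : A)) = ⊤ := by
      rw [eq_top_iff]
      intro a _
      have ha : a ∈ Subring.closure ((𝒜 0 : Set A) ∪ (𝒜 1 : Set A)) := by rw [hgen]; trivial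
      have hle : Subring.closure ((𝒜 0 : Set A) ∪ (𝒜 1 : Set A)) ≤
          (Algebra.adjoin (𝒜 0) (Set.range fun t : (𝒜 1 : Set A) => (t : A))).toSubring := by
        rw [Subring.closure_le]
        rintro x (hx | hx)
        · exact Subalgebra.algebraMap_mem _ (⟨x, hx⟩ : 𝒜 0)
        · exact Algebra.subset_adjoin ⟨⟨x, hx⟩, rfl⟩
      exact hle ha
    have h := irrelevant_le_span_of_adjoin 𝒜 (fun t : (𝒜 1 : Set A) => (t : A))
      (fun t => ⟨1, t.2⟩) hadj
    refine h.trans (Ideal.span_mono ?_)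
    rintro _ ⟨t, rfl⟩
    exact t.2
  · rw [Ideal.span_le]
    intro x hx
    exact mem_irrelevant_of_mem 𝒜 Nat.one_pos hx

end ring

section general
variable {X Z : Scheme.{u}} (j : Z ⟶ X) [IsOpenImmersion j]

/-- invertibility can be checked on the source of an open immersion, at the points of its range. -/
theorem exists_isBasisOver_of_restrict (L : X.Modules) (hL : PicF.IsInvertible (L.restrict j)) (z : Z) :
    ∃ (U : X.Opens) (e : Γ(L, U)), j z ∈ U ∧ IsBasisOver L U e := by
  obtain ⟨V, e, hzV, he⟩ := (isInvertible_iff_exists_isBasisOver _).mp hL z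
  exact ⟨j ''ᵁ V, e, ⟨z, hzV, rfl⟩, (isBasisOver_restrict_iff j L V e).mp he⟩

end general

section rel
variable {Y P : Scheme.{u}} {𝒮 : RelProj.QCGrAlg Y} {p : P ⟶ Y}
  {chart : ∀ (U : Y.Opens) (hU : IsAffineOpen U), (((p ⁻¹ᵁ U : P.Opens) : Scheme.{u}) ≅ Proj (𝒮.deg U hU))}

/-- **`O_P(n)` on a relative Proj is invertible** when `𝒮` is generated in degree one. -/
theorem relTwist_isInvertible (hgen : 𝒮.IsGenDegOne) {n : ℤ} {L : P.Modules}
    {lam : ∀ (U : Y.Opens) (hU : IsAffineOpen U),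
      L ⟶ (Scheme.Modules.pushforward (RelProj.emb p chart U hU)).obj (GrTwist.twist (𝒮.deg U hU) n)}
    (hL : RelProj.IsRelTwist 𝒮 p chart n L lam) : PicF.IsInvertible L := by
  rw [isInvertible_iff_exists_isBasisOver]
  intro y
  have hy : y ∈ (⨆ U : Y.affineOpens, (RelProj.emb p chart U.1 U.2).opensRange) := by
    rw [(isOpenCover_emb 𝒮 p chart).iSup_eq_top]; trivial
  obtain ⟨U, z, rfl⟩ := Opens.mem_iSup.mp hy
  haveI := isIso_adj_relTwist hL U.1 U.2
  have hinv : PicF.IsInvertible (L.restrict (RelProj.emb p chart U.1 U.2)) :=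
    isInvertible_of_iso (asIso (adj (RelProj.emb p chart U.1 U.2) L _ (lam U.1 U.2))).symm
      (Groth.Agent.H8.GTW.isInvertible_twist_of_span (fun f hf => hf)
        (irrelevant_eq_span_degOne (𝒮.deg U.1 U.2) (hgen U.1 U.2)) n)
  exact exists_isBasisOver_of_restrict _ L hinv z

end rel

end Groth.Agent.H8.RelTwist
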