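import Groth.Agent.Lib.Helper8.RelTwist.MapTwist0

/-! # The comparison map `O_{Proj 𝒜}(n) ⟶ h_* O_{Proj ℬ}(n)` for a morphism of relative Proj's. -/

set_option autoImplicit false
universe u
open AlgebraicGeometry CategoryTheory Opposite TopologicalSpace
open scoped HomogeneousIdeal

namespace Groth.Agent.H8.RelTwist

open Groth.Agent.LD.QC Groth.Agent.H8.RelTilde Groth.Agent.H8.ProjTilde

variable {Y PA PB : Scheme.{u}} {𝒜 ℬ : RelProj.QCGrAlg Y}
  {φ : 𝒜.toQCAlg ⟶ ℬ.toQCAlg} {hφ : RelProj.IsGradedHom φ}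
  {hirr : ∀ (U : Y.Opens) (hU : IsAffineOpen U),
    (ℬ.deg U hU)₊ ≤ ((𝒜.deg U hU)₊).map (RelProj.gradedHomAt φ hφ U hU)}
  {pA : PA ⟶ Y} {pB : PB ⟶ Y}
  {chartA : ∀ (U : Y.Opens) (hU : IsAffineOpen U), (((pA ⁻¹ᵁ U : PA.Opens) : Scheme.{u}) ≅ Proj (𝒜.deg U hU))}
  {chartB : ∀ (U : Y.Opens) (hU : IsAffineOpen U), (((pB ⁻¹ᵁ U : PB.Opens) : Scheme.{u}) ≅ Proj (ℬ.deg U hU))}
  {h : PB ⟶ PA}

/-- the chart square of a morphism of relative Proj's. -/
lemma emb_comp_map (hh : RelProj.IsRelProjMap φ hφ hirr chartA chartB h) (U : Y.Opens) (hU : IsAffineOpen U) :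
    RelProj.emb pB chartB U hU ≫ h =
      Proj.map (RelProj.gradedHomAt φ hφ U hU) (hirr U hU) ≫ RelProj.emb pA chartA U hU := by
  have e := hh U hU
  unfold RelProj.emb
  rw [Category.assoc, e, Iso.inv_hom_id_assoc]

/-- on points. -/
lemma h_embB (hh : RelProj.IsRelProjMap φ hφ hirr chartA chartB h) (U : Y.Opens) (hU : IsAffineOpen U)
    (y : ProjectiveSpectrum (ℬ.deg U hU)) :
    h.base ((RelProj.emb pB chartB U hU).base y) =
      (RelProj.emb pA chartA U hU).base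
        (ProjectiveSpectrum.comap (RelProj.gradedHomAt φ hφ U hU) (hirr U hU) y) := by
  have h2 := congrArg (fun ψ : Proj (ℬ.deg U hU) ⟶ PA => ψ.base y) (emb_comp_map hh U hU)
  exact h2

/-- naturality of `φ` with respect to restriction. -/
lemma gradedHomAt_res (U V : Y.Opens) (hU : IsAffineOpen U) (hV : IsAffineOpen V) (i : V ≤ U)
    (a : 𝒜.presheaf.obj (op U)) :
    RelProj.gradedHomAt φ hφ V hV (𝒜.res hU hV i a) = ℬ.res hU hV i (RelProj.gradedHomAt φ hφ U hU a) := by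
  have := φ.hom.naturality (homOfLE i).op
  exact congr($(this).hom a)

/-- the two image points agree. -/
lemma comap_comm (U : Y.Opens) (hU : IsAffineOpen U) (r : Γ(Y, U))
    (y : ProjectiveSpectrum (ℬ.deg (Y.basicOpen r) (hU.basicOpen r))) :
    ProjectiveSpectrum.comap (𝒜.res hU (hU.basicOpen r) (Y.basicOpen_le r)) (𝒜.irrelevant_le_map U hU r)
      (ProjectiveSpectrum.comap (RelProj.gradedHomAt φ hφ (Y.basicOpen r) (hU.basicOpen r))
        (hirr (Y.basicOpen r) (hU.basicOpen r)) y) =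
    ProjectiveSpectrum.comap (RelProj.gradedHomAt φ hφ U hU) (hirr U hU)
      (ProjectiveSpectrum.comap (ℬ.res hU (hU.basicOpen r) (Y.basicOpen_le r))
        (ℬ.irrelevant_le_map U hU r) y) := by
  apply ProjectiveSpectrum.ext
  apply HomogeneousIdeal.ext
  ext a
  change RelProj.gradedHomAt φ hφ (Y.basicOpen r) (hU.basicOpen r)
      (𝒜.res hU (hU.basicOpen r) (Y.basicOpen_le r) a) ∈ y.asHomogeneousIdeal ↔
    ℬ.res hU (hU.basicOpen r) (Y.basicOpen_le r) (RelProj.gradedHomAt φ hφ U hU a) ∈ y.asHomogeneousIdeal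
  rw [gradedHomAt_res]

end Groth.Agent.H8.RelTwist
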