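import Groth.Agent.Lib.Helper8.RelTwist.Zero
import Groth.Agent.Lib.Helper8.RelTwist.Tensor

/-! # Relative twisting sheaves: `O_X(-n)|_U` is an inverse of `O_X(n)|_U` on quasi-compact opens, `d ∣ n`. -/

set_option autoImplicit false
universe u
open AlgebraicGeometry CategoryTheory Opposite TopologicalSpace

namespace Groth.Agent.H8.RelTwist

open Groth.Agent.LD.QC Groth.Agent.H8.ProjTilde Groth.Agent.H8.RelTilde Groth.Agent.H8.GTW

section general
variable {X : Scheme.{u}}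

/-- a module mapping to the structure sheaf bijectively on sections over the opens inside `U` is trivial on `U`. -/
theorem nonempty_restrict_iso_unit_of_bijective {M : X.Modules} (Φ : M ⟶ unitMod X) (U : X.Opens)
    (h : ∀ V : X.Opens, V ≤ U → Function.Bijective (Φ.app V)) :
    Nonempty (M.restrict U.ι ≅ unitMod U) := by
  obtain ⟨e, he⟩ := (h U le_rfl).2 (1 : Γ(X, U))
  have hb : IsBasisOver M U e := by
    intro V hV
    have h1 : (fun t => Φ.app V t) ∘ (fun a : Γ(X, V) => a • M.presheaf.map (homOfLE hV).op e) = id := by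
      funext a
      rw [Function.comp_apply, Scheme.Modules.Hom.app_smul, app_res, he]
      change a • (X.presheaf.map (homOfLE hV).op).hom (1 : Γ(X, U)) = a
      rw [map_one]
      exact mul_one a
    have h2 : Function.Bijective ((fun t => Φ.app V t) ∘
        (fun a : Γ(X, V) => a • M.presheaf.map (homOfLE hV).op e)) := by
      rw [h1]; exact Function.bijective_id
    exact (Function.Bijective.of_comp_iff' (h V hV) _).mp h2
  exact ⟨(isoOfBasis M U e hb).symm⟩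

end general

section rel
variable {Y P : Scheme.{u}} {𝒮 : RelProj.QCGrAlg Y} {p : P ⟶ Y}
  {chart : ∀ (U : Y.Opens) (hU : IsAffineOpen U), (((p ⁻¹ᵁ U : P.Opens) : Scheme.{u}) ≅ Proj (𝒮.deg U hU))}

variable (𝒮 p chart) in
/-- a quasi-compact open of a relative Proj is covered by finitely many chart basic opens; `d` is a common multiple
of the degrees. -/
theorem exists_period_data (U : P.Opens) (hU : IsCompact (U : Set P)) :
    ∃ d : ℕ, 0 < d ∧ ∀ x ∈ U, ∃ (V : Y.Opens) (hV : IsAffineOpen V) (dx : ℕ) (f : 𝒮.presheaf.obj (op V))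
      (_ : f ∈ 𝒮.deg V hV dx), dx ∣ d ∧
      x ∈ RelProj.emb p chart V hV ''ᵁ Proj.basicOpen (𝒮.deg V hV) f := by
  classical
  choose V hV d hd f hf hx using exists_chart_basicOpen 𝒮 p chart
  obtain ⟨t, ht⟩ := hU.elim_finite_subcover
    (fun x : P => ((RelProj.emb p chart (V x) (hV x) ''ᵁ Proj.basicOpen (𝒮.deg (V x) (hV x)) (f x) : P.Opens) : Set P))
    (fun x => (RelProj.emb p chart (V x) (hV x) ''ᵁ Proj.basicOpen (𝒮.deg (V x) (hV x)) (f x)).2)
    (fun x _ => Set.mem_iUnion.mpr ⟨x, hx x⟩)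
  refine ⟨∏ x ∈ t, d x, Finset.prod_pos fun x _ => hd x, fun x hxU => ?_⟩
  obtain ⟨y, hy⟩ := Set.mem_iUnion.mp (ht hxU)
  obtain ⟨hyt, hxy⟩ := Set.mem_iUnion.mp hy
  exact ⟨V y, hV y, d y, f y, hf y, Finset.dvd_prod_of_mem d hyt, hxy⟩

/-- over an open of a chart inside `D₊(f)`, `deg f ∣ k`, `O_P(k)` has a section reading as a unit section. -/
lemma exists_unit_preimage_deg {k : ℤ} {K : P.Modules}
    {lamK : ∀ (U : Y.Opens) (hU : IsAffineOpen U),
      K ⟶ (Scheme.Modules.pushforward (RelProj.emb p chart U hU)).obj (GrTwist.twist (𝒮.deg U hU) k)}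
    (hK : RelProj.IsRelTwist 𝒮 p chart k K lamK) (U : Y.Opens) (hU : IsAffineOpen U) {dx : ℕ}
    (f : 𝒮.presheaf.obj (op U)) (hf : f ∈ 𝒮.deg U hU dx) (hdk : (dx : ℤ) ∣ k) (W : P.Opens)
    (hW : W ≤ p ⁻¹ᵁ U)
    (hle : RelProj.emb p chart U hU ⁻¹ᵁ W ≤ Proj.basicOpen (𝒮.deg U hU) f) :
    ∃ e : Γ(K, W), IsUnitSec (show GrTwist.sectN (𝒜 := 𝒮.deg U hU) k
      (op (RelProj.emb p chart U hU ⁻¹ᵁ W)) from (lamK U hU).app W e) := by
  obtain ⟨c, rfl⟩ := hdk
  obtain ⟨u, hu⟩ := exists_isUnitSec (𝒜 := 𝒮.deg U hU) f hf c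
    (V := RelProj.emb p chart U hU ⁻¹ᵁ W) hle
  have hu' := hu.cast (mul_comm c (dx : ℤ))
  obtain ⟨e, he⟩ := (hK.bijective U hU W hW).2 (castSec (mul_comm c (dx : ℤ)) u)
  exact ⟨e, he.symm ▸ hu'⟩

variable (𝒮 p chart) in
/-- the identification of the structure sheaf with `O(k)`, `k = 0`. -/
noncomputable def lamZ (k : ℤ) (hk : k = 0) (U : Y.Opens) (hU : IsAffineOpen U) :
    unitMod P ⟶ (Scheme.Modules.pushforward (RelProj.emb p chart U hU)).obj (GrTwist.twist (𝒮.deg U hU) k) :=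
  hk ▸ lam0 𝒮 p chart U hU

theorem isRelTwist_zero' (hP : RelProj.IsRelProj 𝒮 p chart) (k : ℤ) (hk : k = 0) :
    RelProj.IsRelTwist 𝒮 p chart k (unitMod P) (lamZ 𝒮 p chart k hk) := by
  subst hk
  exact isRelTwist_zero hP

/-- **`O_X(n)|_U ⊗ O_X(-n)|_U ≅ O_U`** for `U` quasi-compact and `n` divisible by a suitable `d > 0`. -/
theorem exists_period_tensor_neg (hP : RelProj.IsRelProj 𝒮 p chart) (U : P.Opens)
    (hU : IsCompact (U : Set P)) :
    ∃ d : ℕ, 0 < d ∧ ∀ (n : ℤ), (d : ℤ) ∣ n →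
      ∀ (L : P.Modules)
        (lam : ∀ (V : Y.Opens) (hV : IsAffineOpen V),
          L ⟶ (Scheme.Modules.pushforward (RelProj.emb p chart V hV)).obj (GrTwist.twist (𝒮.deg V hV) n)),
        RelProj.IsRelTwist 𝒮 p chart n L lam →
      ∀ (L' : P.Modules)
        (lam' : ∀ (V : Y.Opens) (hV : IsAffineOpen V),
          L' ⟶ (Scheme.Modules.pushforward (RelProj.emb p chart V hV)).obj (GrTwist.twist (𝒮.deg V hV) (-n))),
        RelProj.IsRelTwist 𝒮 p chart (-n) L' lam' →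
          Nonempty (CohB1.tensorMod (L.restrict U.ι) (L'.restrict U.ι) ≅ unitMod U) := by
  obtain ⟨d, hd, hdata⟩ := exists_period_data 𝒮 p chart U hU
  refine ⟨d, hd, fun n hn L lam hL L' lam' hL' => ?_⟩
  have hZ := isRelTwist_zero' hP (n + -n) (add_neg_cancel n)
  obtain ⟨Φ, hΦ⟩ := exists_mulHom hP hL hL' hZ
  have hbij : ∀ V : P.Opens, V ≤ U → Function.Bijective (Φ.app V) := by
    apply bijective_app_of_local
    intro x hx
    obtain ⟨V, hV, dx, f, hf, hdx, hxW⟩ := hdata x hx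
    have hWV : RelProj.emb p chart V hV ''ᵁ (Proj.basicOpen (𝒮.deg V hV) f) ≤ p ⁻¹ᵁ V := by
      rw [← opensRange_emb 𝒮 p chart V hV]
      rintro _ ⟨y, -, rfl⟩
      exact ⟨y, rfl⟩
    have hle : RelProj.emb p chart V hV ⁻¹ᵁ
        (RelProj.emb p chart V hV ''ᵁ (Proj.basicOpen (𝒮.deg V hV) f)) ≤
        Proj.basicOpen (𝒮.deg V hV) f := by
      rintro y ⟨y', hy', hyy⟩
      rwa [← (RelProj.emb p chart V hV).isOpenEmbedding.injective hyy]
    have hdn : (dx : ℤ) ∣ n := (Int.natCast_dvd_natCast.mpr hdx).trans hn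
    obtain ⟨e, hu⟩ := exists_unit_preimage_deg hL V hV f hf hdn _ hWV hle
    obtain ⟨e', hu'⟩ := exists_unit_preimage_deg hL' V hV f hf ((dvd_neg).mpr hdn) _ hWV hle
    refine ⟨_, hxW, fun V' hV' => ?_⟩
    have hb1 := (isBasisOver_of_isUnitSec hL V hV _ hWV e hu).tmul
      (isBasisOver_of_isUnitSec hL' V hV _ hWV e' hu')
    have key : (lamZ 𝒮 p chart (n + -n) (add_neg_cancel n) V hV).app _
        (Φ.app _ (SecTwist.tmul L L' _ e e')) = pairB lam lam' V hV _ e e' :=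
      (congrArg (fun φ => φ.app _ (SecTwist.tmul L L' _ e e')) (hΦ V hV)).trans
        (pairHom_app_tmul lam lam' V hV _ e e')
    have hu'' : IsUnitSec (show GrTwist.sectN (𝒜 := 𝒮.deg V hV) (n + -n)
        (op (RelProj.emb p chart V hV ⁻¹ᵁ _)) from pairB lam lam' V hV _ e e') := hu.mul hu'
    have hb2 := isBasisOver_of_isUnitSec hZ V hV _ hWV _ (key.symm ▸ hu'')
    exact bijective_app_of_isBasisOver Φ hb1 hb2 V' hV'
  obtain ⟨φ⟩ := nonempty_restrict_iso_unit_of_bijective Φ U hbij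
  exact ⟨restrictTensorIso U.ι L L' ≪≫ φ⟩

end rel

end Groth.Agent.H8.RelTwist
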