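import Groth.Agent.Lib.Helper8.RelTwist.Tensor
import Groth.Agent.Lib.Helper8.GTW.SerreGen
import Groth.Agent.Lib.Helper8.RelTilde.FinType
import Groth.Agent.Lib.Lead.QC.CounitEpi2
import Groth.Agent.Lib.Lead.QC.LocFree
import Groth.Agent.Lib.Lead.QC.SubExt

/-! # Relative Serre generation on a relative Proj. -/

set_option autoImplicit false
universe u
open AlgebraicGeometry CategoryTheory CategoryTheory.Limits Opposite TopologicalSpace

namespace Groth.Agent.H8.RelTwist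

open Groth.Agent.LD.QC Groth.Agent.H8.ProjTilde Groth.Agent.H8.RelTilde Groth.Agent.H8.GTW

section general
variable {X Q : Scheme.{u}}

/-- an epimorphism from a finite free module onto the restriction to a chart gives one onto the restriction to
any open with the same range. -/
theorem exists_epi_free_restrict_of_range_eq (G : X.Modules) (j : Q ⟶ X) [IsOpenImmersion j]
    (W : X.Opens) (hW : Set.range W.ι.base ⊆ Set.range j.base) (K : ℕ)
    (π : freeMod Q K ⟶ G.restrict j) [Epi π] :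
    ∃ (K' : Type u) (π' : (SheafOfModules.free K' : (W : Scheme.{u}).Modules) ⟶ G.restrict W.ι), Epi π' := by
  let k := IsOpenImmersion.lift j W.ι hW
  refine ⟨ULift.{u} (Fin K), (freeModIso _ K).inv ≫ (restrictFreeModIso k K).inv ≫
    (Scheme.Modules.restrictFunctor k).map π ≫ (restrictLiftIso G j W.ι hW).hom, ?_⟩
  haveI h1 : Epi ((Scheme.Modules.restrictFunctor k).map π) := inferInstance
  haveI h2 : Epi ((Scheme.Modules.restrictFunctor k).map π ≫ (restrictLiftIso G j W.ι hW).hom) :=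
    epi_comp _ _
  have h3 : Epi ((restrictFreeModIso k K).inv ≫
      (Scheme.Modules.restrictFunctor k).map π ≫ (restrictLiftIso G j W.ι hW).hom) := epi_comp _ _
  exact @epi_comp _ _ _ _ _ _ inferInstance _ h3

end general


section ring
variable {A σ : Type u} [CommRing A] [SetLike σ A] [AddSubgroupClass σ A] (𝒜 : ℕ → σ) [GradedRing 𝒜]

/-- generation in degree one with `𝒜 1` finitely generated: the irrelevant ideal is generated by finitely many
degree one elements. -/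
lemma irrelevant_eq_span_finset (hgen : Subring.closure ((𝒜 0 : Set A) ∪ (𝒜 1 : Set A)) = ⊤)
    (T : Finset A) (hT1 : (↑T : Set A) ⊆ (𝒜 1 : Set A))
    (hT : ∀ x ∈ 𝒜 1, ∃ c : A → A, x = ∑ t ∈ T, c t * t) :
    (HomogeneousIdeal.irrelevant 𝒜).toIdeal = Ideal.span (T : Set A) := by
  rw [irrelevant_eq_span_degOne 𝒜 hgen]
  apply le_antisymm
  · rw [Ideal.span_le]
    intro x hx
    obtain ⟨c, rfl⟩ := hT x hx
    exact Ideal.sum_mem _ fun t ht => Ideal.mul_mem_left _ _ (Ideal.subset_span ht)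
  · exact Ideal.span_mono hT1

end ring

section rel
variable {Y P : Scheme.{u}} {𝒮 : RelProj.QCGrAlg Y} {p : P ⟶ Y}
  {chart : ∀ (U : Y.Opens) (hU : IsAffineOpen U), (((p ⁻¹ᵁ U : P.Opens) : Scheme.{u}) ≅ Proj (𝒮.deg U hU))}

/-- the restriction of `F ⊗ O_P(n)` to a chart is `F|_chart ⊗ O(n)`. -/
theorem nonempty_restrict_tensor_iso {n : ℤ} {L : P.Modules}
    {lam : ∀ (U : Y.Opens) (hU : IsAffineOpen U),
      L ⟶ (Scheme.Modules.pushforward (RelProj.emb p chart U hU)).obj (GrTwist.twist (𝒮.deg U hU) n)}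
    (hL : RelProj.IsRelTwist 𝒮 p chart n L lam) (F : P.Modules) (V : Y.Opens) (hV : IsAffineOpen V) :
    Nonempty (CohB1.tensorMod (F.restrict (RelProj.emb p chart V hV)) (GrTwist.twist (𝒮.deg V hV) n) ≅
      (CohB1.tensorMod F L).restrict (RelProj.emb p chart V hV)) := by
  haveI := isIso_adj_relTwist hL V hV
  exact ⟨tensorIso' (Iso.refl _) (asIso (adj (RelProj.emb p chart V hV) L _ (lam V hV))).symm ≪≫
    restrictTensorIso (RelProj.emb p chart V hV) F L⟩

/-- Serre generation over one chart, in the form needed for the counit. -/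
theorem exists_bound_chart (hgen : 𝒮.IsGenDegOne) (hft : 𝒮.IsFTDeg 1) (F : P.Modules)
    [F.IsQuasicoherent] (hFt : F.IsFiniteType) (V : Y.Opens) (hV : IsAffineOpen V) :
    ∃ N₀ : ℕ, ∀ N : ℕ, N₀ ≤ N → ∀ (L : P.Modules)
      (lam : ∀ (U : Y.Opens) (hU : IsAffineOpen U),
        L ⟶ (Scheme.Modules.pushforward (RelProj.emb p chart U hU)).obj (GrTwist.twist (𝒮.deg U hU) (N : ℤ))),
      RelProj.IsRelTwist 𝒮 p chart (N : ℤ) L lam →
      ∃ (K' : Type u) (π' : (SheafOfModules.free K' : ((p ⁻¹ᵁ V : P.Opens) : Scheme.{u}).Modules) ⟶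
        (CohB1.tensorMod F L).restrict (p ⁻¹ᵁ V).ι), Epi π' := by
  classical
  obtain ⟨T, hT1, hT⟩ := hft V hV
  have hs := irrelevant_eq_span_finset (𝒮.deg V hV) (hgen V hV) T hT1 (fun x hx => by
    obtain ⟨c, hc⟩ := hT x hx
    exact ⟨fun t => (𝒮.str.app (op V)).hom (c t), hc⟩)
  haveI : (F.restrict (RelProj.emb p chart V hV)).IsQuasicoherent := inferInstance
  obtain ⟨N₀, hN₀⟩ := exists_epi_free_twistBy T (fun f hf => hT1 hf) hs
    (F.restrict (RelProj.emb p chart V hV)) (isFiniteType_restrict _ F hFt)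
  refine ⟨N₀, fun N hN L lam hL => ?_⟩
  obtain ⟨K, π, hπ⟩ := hN₀ N hN
  obtain ⟨e⟩ := nonempty_restrict_tensor_iso hL F V hV
  haveI : Epi (π ≫ e.hom) := epi_comp _ _
  refine exists_epi_free_restrict_of_range_eq (CohB1.tensorMod F L) (RelProj.emb p chart V hV)
    (p ⁻¹ᵁ V) ?_ K (π ≫ e.hom)
  have h1 := opensRange_emb 𝒮 p chart V hV
  have h2 : Set.range (p ⁻¹ᵁ V).ι.base = ((p ⁻¹ᵁ V : P.Opens) : Set P) := Scheme.Opens.range_ι _
  rw [h2, ← h1]
  rfl

/-- **relative Serre generation**: `p^* p_* (F ⊗ O_P(n)) ⟶ F ⊗ O_P(n)` is an epimorphism for `n ≫ 0`. -/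
theorem exists_counit_epi [CompactSpace Y] (hgen : 𝒮.IsGenDegOne) (hft : 𝒮.IsFTDeg 1) (F : P.Modules)
    [F.IsQuasicoherent] (hFt : F.IsFiniteType) :
    ∃ n₀ : ℤ, ∀ (n : ℤ), n₀ ≤ n → ∀ (L : P.Modules)
      (lam : ∀ (U : Y.Opens) (hU : IsAffineOpen U),
        L ⟶ (Scheme.Modules.pushforward (RelProj.emb p chart U hU)).obj (GrTwist.twist (𝒮.deg U hU) n)),
      RelProj.IsRelTwist 𝒮 p chart n L lam →
        Epi ((Scheme.Modules.pullbackPushforwardAdjunction p).counit.app (CohB1.tensorMod F L)) := by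
  classical
  obtain ⟨t, ht⟩ : ∃ t : Finset Y.affineOpens, (Set.univ : Set Y) ⊆ ⋃ U ∈ t, (U.1 : Set Y) := by
    refine isCompact_univ.elim_finite_subcover (fun U : Y.affineOpens => (U.1 : Set Y))
      (fun U => U.1.2) ?_
    intro y _
    have hy : y ∈ (⊤ : Y.Opens) := trivial
    rw [← iSup_affineOpens_eq_top Y] at hy
    obtain ⟨U, hU⟩ := Opens.mem_iSup.mp hy
    exact Set.mem_iUnion.mpr ⟨U, hU⟩
  choose N₀ hN₀ using fun V : Y.affineOpens => exists_bound_chart (p := p) (chart := chart) hgen hft F hFt V.1 V.2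
  refine ⟨((t.sup N₀ : ℕ) : ℤ), fun n hn L lam hL => ?_⟩
  have hn0 : 0 ≤ n := le_trans (Int.natCast_nonneg _) hn
  obtain ⟨N, rfl⟩ := Int.eq_ofNat_of_zero_le hn0
  have hN : t.sup N₀ ≤ N := by exact_mod_cast hn
  apply epi_counit_of_local_epi_free
  intro x
  obtain ⟨V, hV⟩ := Set.mem_iUnion.mp (ht (Set.mem_univ (p.base x)))
  obtain ⟨hVt, hxV⟩ := Set.mem_iUnion.mp hV
  exact ⟨V.1, hxV, hN₀ V N ((Finset.le_sup hVt).trans hN) L lam hL⟩

end rel

end Groth.Agent.H8.RelTwist
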