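import Groth.Agent.Lib.Helper8.RelTwist.UnitSec
import Groth.Agent.Lib.Helper8.RelTwist.Rels

/-! # Relative twisting sheaves: `O_P(nd)` is trivial on `X_f`, `f` a global section of degree `d`. -/

set_option autoImplicit false
universe u
open AlgebraicGeometry CategoryTheory Opposite TopologicalSpace

namespace Groth.Agent.H8.RelTwist

open Groth.Agent.LD.QC Groth.Agent.H8.ProjTilde Groth.Agent.H8.RelTilde Groth.Agent.H8.GTW

variable {Y P : Scheme.{u}} {𝒮 : RelProj.QCGrAlg Y} {p : P ⟶ Y}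
  {chart : ∀ (U : Y.Opens) (hU : IsAffineOpen U), (((p ⁻¹ᵁ U : P.Opens) : Scheme.{u}) ≅ Proj (𝒮.deg U hU))}

/-- the restriction of a global section of `𝒮` to an open. -/
noncomputable abbrev resTop (𝒮 : RelProj.QCGrAlg Y) (f : 𝒮.presheaf.obj (op ⊤)) (U : Y.Opens) :
    𝒮.presheaf.obj (op U) := (𝒮.presheaf.map (homOfLE le_top).op).hom f

lemma res_resTop (f : 𝒮.presheaf.obj (op ⊤)) {U V : Y.Opens} (hU : IsAffineOpen U) (hV : IsAffineOpen V)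
    (i : V ≤ U) : 𝒮.res hU hV i (resTop 𝒮 f U) = resTop 𝒮 f V := by
  rw [RelProj.QCGrAlg.res_apply]
  change ((𝒮.presheaf.map (homOfLE le_top).op) ≫ (𝒮.presheaf.map (homOfLE i).op)).hom f = _
  rw [← 𝒮.presheaf.map_comp]
  rfl

/-- the preimage of `X_f` in a chart is `D₊(f|_U)`. -/
lemma preimage_Xf (f : 𝒮.presheaf.obj (op ⊤)) (Xf : P.Opens)
    (hXf : ∀ (U : Y.Opens) (hU : IsAffineOpen U),
      Xf ⊓ p ⁻¹ᵁ U =
        (p ⁻¹ᵁ U).ι ''ᵁ ((chart U hU).hom ⁻¹ᵁ Proj.basicOpen (𝒮.deg U hU) (resTop 𝒮 f U)))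
    (U : Y.Opens) (hU : IsAffineOpen U) :
    RelProj.emb p chart U hU ⁻¹ᵁ Xf = Proj.basicOpen (𝒮.deg U hU) (resTop 𝒮 f U) := by
  ext z
  have hz : (RelProj.emb p chart U hU).base z ∈ p ⁻¹ᵁ U := by
    have : (RelProj.emb p chart U hU).base z ∈ (RelProj.emb p chart U hU).opensRange := ⟨z, rfl⟩
    rwa [opensRange_emb] at this
  constructor
  · intro h
    have h1 : (RelProj.emb p chart U hU).base z ∈ Xf ⊓ p ⁻¹ᵁ U := ⟨h, hz⟩
    rw [hXf U hU] at h1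
    obtain ⟨w, hw, hwz⟩ := h1
    have hw' : w = (chart U hU).inv.base z := by
      apply (p ⁻¹ᵁ U).ι.isOpenEmbedding.injective
      exact hwz
    rw [hw'] at hw
    have : (chart U hU).hom.base ((chart U hU).inv.base z) = z := by
      rw [← Scheme.Hom.comp_apply, Iso.inv_hom_id]; rfl
    have hw2 : (chart U hU).hom.base ((chart U hU).inv.base z) ∈
        Proj.basicOpen (𝒮.deg U hU) (resTop 𝒮 f U) := hw
    rwa [this] at hw2
  · intro h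
    have h1 : (RelProj.emb p chart U hU).base z ∈ Xf ⊓ p ⁻¹ᵁ U := by
      rw [hXf U hU]
      have : (chart U hU).hom.base ((chart U hU).inv.base z) = z := by
        rw [← Scheme.Hom.comp_apply, Iso.inv_hom_id]; rfl
      have hw2 : (chart U hU).hom.base ((chart U hU).inv.base z) ∈
          Proj.basicOpen (𝒮.deg U hU) (resTop 𝒮 f U) := by rwa [this]
      exact ⟨(chart U hU).inv.base z, hw2, rfl⟩
    exact h1.1

section main
variable (hP : RelProj.IsRelProj 𝒮 p chart) {d : ℕ} (f : 𝒮.presheaf.obj (op ⊤))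
  (hf : ∀ (U : Y.Opens) (hU : IsAffineOpen U), resTop 𝒮 f U ∈ 𝒮.deg U hU d)

/-- the chartwise sections `f^a / f^b` of `O(m)`, `m = (a - b) d`, over an open `Ω` whose chart preimages lie in
`D₊(f)`. -/
noncomputable def powT (a b : ℕ) (m : ℤ) (hm : ((a • d : ℕ) : ℤ) = ((b • d : ℕ) : ℤ) + m) (Ω : P.Opens)
    (hΩ : ∀ (U : Y.Opens) (hU : IsAffineOpen U),
      RelProj.emb p chart U hU ⁻¹ᵁ Ω ≤ Proj.basicOpen (𝒮.deg U hU) (resTop 𝒮 f U))
    (U : Y.Opens) (hU : IsAffineOpen U) :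
    Γ((Scheme.Modules.pushforward (RelProj.emb p chart U hU)).obj (GrTwist.twist (𝒮.deg U hU) m), Ω) :=
  fracSec (𝒜 := 𝒮.deg U hU) ⟨resTop 𝒮 f U ^ a, SetLike.pow_mem_graded a (hf U hU)⟩
    ⟨resTop 𝒮 f U ^ b, SetLike.pow_mem_graded b (hf U hU)⟩ m hm (RelProj.emb p chart U hU ⁻¹ᵁ Ω)
    (fun x h => (hΩ U hU x.2) (x.1.isPrime.mem_of_pow_mem b h))

include hP in
lemma powT_rel (a b : ℕ) (m : ℤ) (hm : ((a • d : ℕ) : ℤ) = ((b • d : ℕ) : ℤ) + m) (Ω : P.Opens)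
    (hΩ : ∀ (U : Y.Opens) (hU : IsAffineOpen U),
      RelProj.emb p chart U hU ⁻¹ᵁ Ω ≤ Proj.basicOpen (𝒮.deg U hU) (resTop 𝒮 f U))
    (U : Y.Opens) (hU : IsAffineOpen U) (r : Γ(Y, U)) :
    (twistRel hP m).Rel U hU r Ω (powT f hf a b m hm Ω hΩ U hU)
      (powT f hf a b m hm Ω hΩ (Y.basicOpen r) (hU.basicOpen r)) := by
  intro y hy hy'
  exact locMap_fracSec (𝒮.res hU (hU.basicOpen r) (Y.basicOpen_le r)) (𝒮.irrelevant_le_map U hU r)
    ⟨resTop 𝒮 f U ^ a, SetLike.pow_mem_graded a (hf U hU)⟩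
    ⟨resTop 𝒮 f U ^ b, SetLike.pow_mem_graded b (hf U hU)⟩ m hm _ _
    ⟨resTop 𝒮 f (Y.basicOpen r) ^ a, SetLike.pow_mem_graded a (hf _ (hU.basicOpen r))⟩
    ⟨resTop 𝒮 f (Y.basicOpen r) ^ b, SetLike.pow_mem_graded b (hf _ (hU.basicOpen r))⟩
    (by rw [map_pow, res_resTop f hU (hU.basicOpen r) (Y.basicOpen_le r)])
    (by rw [map_pow, res_resTop f hU (hU.basicOpen r) (Y.basicOpen_le r)]) _ _ y hy' hy

include hP in
/-- **the section `f^a / f^b` of `O_P(m)` over `Ω ⊆ X_f`**, and the trivialisation it defines. -/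
theorem exists_powSection {m : ℤ} {L : P.Modules}
    {lam : ∀ (U : Y.Opens) (hU : IsAffineOpen U),
      L ⟶ (Scheme.Modules.pushforward (RelProj.emb p chart U hU)).obj (GrTwist.twist (𝒮.deg U hU) m)}
    (hL : RelProj.IsRelTwist 𝒮 p chart m L lam)
    (a b : ℕ) (hm : ((a • d : ℕ) : ℤ) = ((b • d : ℕ) : ℤ) + m) (Ω : P.Opens)
    (hΩ : ∀ (U : Y.Opens) (hU : IsAffineOpen U),
      RelProj.emb p chart U hU ⁻¹ᵁ Ω ≤ Proj.basicOpen (𝒮.deg U hU) (resTop 𝒮 f U)) :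
    ∃ e : Γ(L, Ω), IsIso (homOfSecOver L Ω e) ∧
      ∀ (U : Y.Opens) (hU : IsAffineOpen U), (lam U hU).app Ω e = powT f hf a b m hm Ω hΩ U hU := by
  obtain ⟨e, he, -⟩ := existsUnique_section (twistRel hP m) lam hL.bijective (compat_of_isRelTwist hP hL) Ω
    (powT f hf a b m hm Ω hΩ) (fun U hU r => powT_rel hP f hf a b m hm Ω hΩ U hU r)
  refine ⟨e, ?_, he⟩
  apply isIso_homOfSecOver_of_local
  intro x hx
  have hx' : p.base x ∈ (⊤ : Y.Opens) := trivial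
  rw [← iSup_affineOpens_eq_top Y] at hx'
  obtain ⟨U, hU⟩ := Opens.mem_iSup.mp hx'
  refine ⟨Ω ⊓ p ⁻¹ᵁ U.1, inf_le_left, ⟨hx, hU⟩, ?_⟩
  apply isBasisOver_of_isUnitSec hL U.1 U.2 _ inf_le_right
  rw [app_res, he U.1 U.2]
  refine IsUnitSec.of_val_eq (isUnitSec_fracSec (𝒜 := 𝒮.deg U.1 U.2)
    ⟨resTop 𝒮 f U.1 ^ a, SetLike.pow_mem_graded a (hf U.1 U.2)⟩
    ⟨resTop 𝒮 f U.1 ^ b, SetLike.pow_mem_graded b (hf U.1 U.2)⟩ m hm
    (RelProj.emb p chart U.1 U.2 ⁻¹ᵁ (Ω ⊓ p ⁻¹ᵁ U.1))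
    (fun x h => (hΩ U.1 U.2 x.2.1) (x.1.isPrime.mem_of_pow_mem b h))
    (fun x h => (hΩ U.1 U.2 x.2.1) (x.1.isPrime.mem_of_pow_mem a h))) (fun x => rfl)

end main

end Groth.Agent.H8.RelTwist
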