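import Groth.Agent.Lib.Helper8.RelTwist.Inv
import Groth.Agent.Lib.Helper8.GTW.MulX
import Groth.Agent.Lib.Helper8.ProjTilde.Stalk

/-! # Relative twisting sheaves: local bases on chart basic opens, periods on quasi-compact opens. -/

set_option autoImplicit false
universe u
open AlgebraicGeometry CategoryTheory Opposite TopologicalSpace

namespace Groth.Agent.H8.RelTwist

open Groth.Agent.LD.QC Groth.Agent.H8.ProjTilde Groth.Agent.H8.RelTilde

section general
variable {X Z : Scheme.{u}} (j : Z ⟶ X) [IsOpenImmersion j]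

/-- transfer of a basis through an isomorphism `L|_Z ≅ G` along an open immersion. -/
theorem isBasisOver_of_restrict_iso (L : X.Modules) (G : Z.Modules) (φ : L.restrict j ≅ G)
    (V : Z.Opens) (e : Γ(G, V)) (he : IsBasisOver G V e) :
    IsBasisOver L (j ''ᵁ V) (show Γ(L, j ''ᵁ V) from φ.inv.app V e) :=
  (isBasisOver_restrict_iff j L V _).mp
    (he.map_of_bijective φ.inv (fun W _ => app_bijective_of_isIso φ.inv W))

end general

section rel
variable {Y P : Scheme.{u}} {𝒮 : RelProj.QCGrAlg Y} {p : P ⟶ Y}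
  {chart : ∀ (U : Y.Opens) (hU : IsAffineOpen U), (((p ⁻¹ᵁ U : P.Opens) : Scheme.{u}) ≅ Proj (𝒮.deg U hU))}

variable (𝒮 p chart) in
/-- every point of a relative Proj lies in a chart basic open `D₊(f)`, `f` homogeneous of positive degree. -/
lemma exists_chart_basicOpen (x : P) :
    ∃ (V : Y.Opens) (hV : IsAffineOpen V) (d : ℕ) (_ : 0 < d) (f : 𝒮.presheaf.obj (op V))
      (_ : f ∈ 𝒮.deg V hV d), x ∈ RelProj.emb p chart V hV ''ᵁ Proj.basicOpen (𝒮.deg V hV) f := by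
  have hx : x ∈ (⨆ U : Y.affineOpens, (RelProj.emb p chart U.1 U.2).opensRange) := by
    rw [(isOpenCover_emb 𝒮 p chart).iSup_eq_top]; trivial
  obtain ⟨V, z, rfl⟩ := Opens.mem_iSup.mp hx
  obtain ⟨f, d, hf, hd, hfz⟩ := exists_homog_notMem (𝒮.deg V.1 V.2) z
  exact ⟨V.1, V.2, d, hd, f, hf, z, hfz, rfl⟩

/-- on a chart basic open `D₊(f)`, `deg f = d`, the twisting sheaf `O_P(kd)` has a basis. -/
theorem exists_isBasisOver_chart_basicOpen {n : ℤ} {L : P.Modules}
    {lam : ∀ (U : Y.Opens) (hU : IsAffineOpen U),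
      L ⟶ (Scheme.Modules.pushforward (RelProj.emb p chart U hU)).obj (GrTwist.twist (𝒮.deg U hU) n)}
    (hL : RelProj.IsRelTwist 𝒮 p chart n L lam) (V : Y.Opens) (hV : IsAffineOpen V) {d : ℕ}
    (f : 𝒮.presheaf.obj (op V)) (hf : f ∈ 𝒮.deg V hV d) (hdn : (d : ℤ) ∣ n) :
    ∃ e : Γ(L, RelProj.emb p chart V hV ''ᵁ Proj.basicOpen (𝒮.deg V hV) f),
      IsBasisOver L (RelProj.emb p chart V hV ''ᵁ Proj.basicOpen (𝒮.deg V hV) f) e := by
  obtain ⟨k, rfl⟩ := hdn
  obtain ⟨u, hu⟩ := Groth.Agent.H8.GTW.exists_isUnitSec (𝒜 := 𝒮.deg V hV) f hf k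
    (V := ProjectiveSpectrum.basicOpen (𝒮.deg V hV) f) le_rfl
  have hu' := Groth.Agent.H8.GTW.IsUnitSec.cast (mul_comm k (d : ℤ)) hu
  have hb := Groth.Agent.H8.GTW.IsUnitSec.isBasisOver (V := Proj.basicOpen (𝒮.deg V hV) f) hu'
  haveI := isIso_adj_relTwist hL V hV
  exact ⟨_, isBasisOver_of_restrict_iso (RelProj.emb p chart V hV) L _
    (asIso (adj (RelProj.emb p chart V hV) L _ (lam V hV))) _ _ hb⟩

variable (𝒮 p chart) in
/-- **periods on quasi-compact opens**: for a quasi-compact open `U` of a relative Proj there is `d > 0` such that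
every `O_P(n)` with `d ∣ n` has a basis near every point of `U`. -/
theorem exists_period (U : P.Opens) (hU : IsCompact (U : Set P)) :
    ∃ d : ℕ, 0 < d ∧ ∀ (n : ℤ), (d : ℤ) ∣ n → ∀ (L : P.Modules)
      (lam : ∀ (V : Y.Opens) (hV : IsAffineOpen V),
        L ⟶ (Scheme.Modules.pushforward (RelProj.emb p chart V hV)).obj (GrTwist.twist (𝒮.deg V hV) n)),
      RelProj.IsRelTwist 𝒮 p chart n L lam →
      ∀ x ∈ U, ∃ (W : P.Opens) (e : Γ(L, W)), x ∈ W ∧ IsBasisOver L W e := by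
  classical
  choose V hV d hd f hf hx using exists_chart_basicOpen 𝒮 p chart
  obtain ⟨t, ht⟩ := hU.elim_finite_subcover
    (fun x : P => ((RelProj.emb p chart (V x) (hV x) ''ᵁ Proj.basicOpen (𝒮.deg (V x) (hV x)) (f x) : P.Opens) : Set P))
    (fun x => (RelProj.emb p chart (V x) (hV x) ''ᵁ Proj.basicOpen (𝒮.deg (V x) (hV x)) (f x)).2)
    (fun x _ => Set.mem_iUnion.mpr ⟨x, hx x⟩)
  refine ⟨∏ x ∈ t, d x, Finset.prod_pos fun x _ => hd x, fun n hn L lam hL x hxU => ?_⟩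
  obtain ⟨y, hy⟩ := Set.mem_iUnion.mp (ht hxU)
  obtain ⟨hyt, hxy⟩ := Set.mem_iUnion.mp hy
  have hdvd : (d y : ℤ) ∣ n := (Int.natCast_dvd_natCast.mpr (Finset.dvd_prod_of_mem d hyt)).trans hn
  obtain ⟨e, he⟩ := exists_isBasisOver_chart_basicOpen hL (V y) (hV y) (f y) (hf y) hdvd
  exact ⟨_, e, hxy, he⟩

end rel

end Groth.Agent.H8.RelTwist
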