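import Groth.Agent.Lib.Helper8.RelTwist.SectGlue

/-! # Morphisms into a module glued from charts of a relative Proj. -/

set_option autoImplicit false
universe u
open AlgebraicGeometry CategoryTheory Opposite TopologicalSpace

namespace Groth.Agent.H8.RelTwist

open Groth.Agent.LD.QC Groth.Agent.H8.RelTilde

variable {Y P : Scheme.{u}} {𝒮 : RelProj.QCGrAlg Y} {p : P ⟶ Y}
  {chart : ∀ (U : Y.Opens) (hU : IsAffineOpen U), (((p ⁻¹ᵁ U : P.Opens) : Scheme.{u}) ≅ Proj (𝒮.deg U hU))}
  {T : ∀ (U : Y.Opens) (hU : IsAffineOpen U), (Proj (𝒮.deg U hU)).Modules}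

/-- a family of morphisms `F ⟶ (j_U)_* T_U` is compatible for the relation `R`. -/
def Compat (R : ChartRel 𝒮 p chart T) (F : P.Modules)
    (θ : ∀ (U : Y.Opens) (hU : IsAffineOpen U),
      F ⟶ (Scheme.Modules.pushforward (RelProj.emb p chart U hU)).obj (T U hU)) : Prop :=
  ∀ (U : Y.Opens) (hU : IsAffineOpen U) (r : Γ(Y, U)) (W : P.Opens) (s : Γ(F, W)),
    R.Rel U hU r W ((θ U hU).app W s) ((θ (Y.basicOpen r) (hU.basicOpen r)).app W s)

variable (R : ChartRel 𝒮 p chart T) {G : P.Modules}
  {lam : ∀ (U : Y.Opens) (hU : IsAffineOpen U),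
    G ⟶ (Scheme.Modules.pushforward (RelProj.emb p chart U hU)).obj (T U hU)}
  (hbij : ∀ (U : Y.Opens) (hU : IsAffineOpen U) (W : P.Opens), W ≤ p ⁻¹ᵁ U →
    Function.Bijective ((lam U hU).app W))
  (hc : Compat R G lam)
  {F : P.Modules}
  {θ : ∀ (U : Y.Opens) (hU : IsAffineOpen U),
    F ⟶ (Scheme.Modules.pushforward (RelProj.emb p chart U hU)).obj (T U hU)}
  (hθ : Compat R F θ)

include R hbij hc in
/-- sections of `G` are determined by their chartwise images. -/
lemma section_ext_charts {W : P.Opens} (a b : Γ(G, W))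
    (h : ∀ (U : Y.Opens) (hU : IsAffineOpen U), (lam U hU).app W a = (lam U hU).app W b) : a = b :=
  (existsUnique_section R lam hbij hc W (fun U hU => (lam U hU).app W b)
    (fun U hU r => hc U hU r W b)).unique h (fun _ _ => rfl)

/-- the image of a section under the glued morphism. -/
noncomputable def liftSec (W : P.Opens) (s : Γ(F, W)) : Γ(G, W) :=
  (existsUnique_section R lam hbij hc W (fun U hU => (θ U hU).app W s) (fun U hU r => hθ U hU r W s)).exists.choose

lemma lam_liftSec (W : P.Opens) (s : Γ(F, W)) (U : Y.Opens) (hU : IsAffineOpen U) :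
    (lam U hU).app W (liftSec R hbij hc hθ W s) = (θ U hU).app W s :=
  (existsUnique_section R lam hbij hc W (fun U hU => (θ U hU).app W s)
    (fun U hU r => hθ U hU r W s)).exists.choose_spec U hU

lemma liftSec_eq_of (W : P.Opens) (s : Γ(F, W)) (g : Γ(G, W))
    (h : ∀ (U : Y.Opens) (hU : IsAffineOpen U), (lam U hU).app W g = (θ U hU).app W s) :
    liftSec R hbij hc hθ W s = g :=
  section_ext_charts R hbij hc _ _ fun U hU => (lam_liftSec R hbij hc hθ W s U hU).trans (h U hU).symm

lemma liftSec_res {W W' : P.Opens} (h : W' ≤ W) (s : Γ(F, W)) :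
    G.presheaf.map (homOfLE h).op (liftSec R hbij hc hθ W s) =
      liftSec R hbij hc hθ W' (F.presheaf.map (homOfLE h).op s) := by
  refine (liftSec_eq_of R hbij hc hθ W' _ _ fun U hU => ?_).symm
  rw [app_res, app_res, lam_liftSec]

/-- the glued morphism on presheaves of abelian groups. -/
noncomputable def liftPre : F.presheaf ⟶ G.presheaf where
  app W := AddCommGrpCat.ofHom
    { toFun := liftSec R hbij hc hθ W.unop
      map_zero' := liftSec_eq_of R hbij hc hθ W.unop 0 0 fun U hU =>
        (map_zero ((lam U hU).app W.unop).hom).trans (map_zero ((θ U hU).app W.unop).hom).symm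
      map_add' := fun a b => liftSec_eq_of R hbij hc hθ W.unop (a + b) _ fun U hU => by
        have e1 := lam_liftSec R hbij hc hθ W.unop a U hU
        have e2 := lam_liftSec R hbij hc hθ W.unop b U hU
        have e3 : (lam U hU).app W.unop (liftSec R hbij hc hθ W.unop a + liftSec R hbij hc hθ W.unop b) = _ :=
          map_add ((lam U hU).app W.unop).hom _ _
        have e4 : (θ U hU).app W.unop (a + b) = _ := map_add ((θ U hU).app W.unop).hom _ _
        exact e3.trans ((congrArg₂ (· + ·) e1 e2).trans e4.symm) }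
  naturality W W' i := by
    ext s
    obtain ⟨W⟩ := W
    obtain ⟨W'⟩ := W'
    have hi : i = (homOfLE (leOfHom i.unop)).op := Subsingleton.elim _ _
    rw [hi]
    exact (liftSec_res R hbij hc hθ (leOfHom i.unop) s).symm

lemma liftSec_smul (W : P.Opens) (r : Γ(P, W)) (m : Γ(F, W)) :
    liftSec R hbij hc hθ W (r • m) = r • liftSec R hbij hc hθ W m :=
  liftSec_eq_of R hbij hc hθ W (r • m) _ fun U hU => by
    have e1 := lam_liftSec R hbij hc hθ W m U hU
    have e3 := (lam U hU).app_smul r (liftSec R hbij hc hθ W m)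
    have e4 := (θ U hU).app_smul r m
    exact e3.trans ((congrArg _ e1).trans e4.symm)

/-- **the glued morphism** `F ⟶ G` attached to a compatible family `F ⟶ (j_U)_* T_U`. -/
noncomputable def lift : F ⟶ G :=
  ⟨PresheafOfModules.homMk (liftPre R hbij hc hθ)
    (fun W r m => liftSec_smul R hbij hc hθ W.unop r m)⟩

lemma lift_app (W : P.Opens) (s : Γ(F, W)) :
    (lift R hbij hc hθ).app W s = liftSec R hbij hc hθ W s := rfl

include hbij hc hθ in
/-- **universal property of a module glued from charts.** -/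
theorem existsUnique_lift :
    ∃! ut : F ⟶ G, ∀ (U : Y.Opens) (hU : IsAffineOpen U), ut ≫ lam U hU = θ U hU := by
  refine ⟨lift R hbij hc hθ, fun U hU => ?_, fun ut' hut' => ?_⟩
  · refine Scheme.Modules.hom_ext _ _ fun W => ?_
    ext s
    exact lam_liftSec R hbij hc hθ W s U hU
  · refine Scheme.Modules.hom_ext _ _ fun W => ?_
    ext s
    exact (liftSec_eq_of R hbij hc hθ W s _ fun U hU =>
      congrArg (fun φ => φ.app W s) (hut' U hU)).symm

end Groth.Agent.H8.RelTwist
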