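import Groth.Agent.Lib.Helper8.RelTwist.Rels
import Groth.Agent.H4.RelProjLib

/-! # Functoriality squares for `locMap` and swapping pushforwards. -/

set_option autoImplicit false
universe u
open AlgebraicGeometry CategoryTheory Opposite TopologicalSpace
open scoped HomogeneousIdeal

namespace Groth.Agent.H8.RelTwist

section ring
variable {A σ : Type u} [CommRing A] [SetLike σ A] [AddSubgroupClass σ A] {𝒜 : ℕ → σ} [GradedRing 𝒜]

/-- two ring homomorphisms out of the localizations at two equal points which agree on fractions take the same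
value on the values of a section. -/
lemma val_eq_of_point_eq {x1 x2 : ProjectiveSpectrum 𝒜} (hx : x1 = x2) {L : Type*} [CommRing L]
    (f1 : GrTwist.Loc 𝒜 x1 →+* L) (f2 : GrTwist.Loc 𝒜 x2 →+* L)
    (hf : ∀ (a s : A) (hs1 : s ∈ x1.asHomogeneousIdeal.toIdeal.primeCompl)
      (hs2 : s ∈ x2.asHomogeneousIdeal.toIdeal.primeCompl),
      f1 (Localization.mk a ⟨s, hs1⟩) = f2 (Localization.mk a ⟨s, hs2⟩))
    {n : ℤ} {V : Opens (ProjectiveSpectrum.top 𝒜)} (t : GrTwist.sectN (𝒜 := 𝒜) n (op V))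
    (h1 : x1 ∈ V) (h2 : x2 ∈ V) :
    f1 (t.1 ⟨x1, h1⟩).1 = f2 (t.1 ⟨x2, h2⟩).1 := by
  subst hx
  have : f1 = f2 := by
    ext q
    induction q using Localization.induction_on with
    | H p => exact hf p.1 p.2.1 p.2.2 p.2.2
  rw [this]

end ring

section swap
variable {X X' Z Z' : Scheme.{u}} {j' : Z ⟶ X'} {h : X' ⟶ X} {q : Z ⟶ Z'} {j : Z' ⟶ X}

/-- swapping pushforwards along a commutative square. -/
noncomputable def swapIso (sq : j' ≫ h = q ≫ j) (T : Z.Modules) :
    (Scheme.Modules.pushforward h).obj ((Scheme.Modules.pushforward j').obj T) ≅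
      (Scheme.Modules.pushforward j).obj ((Scheme.Modules.pushforward q).obj T) :=
  (Scheme.Modules.pushforwardComp j' h).app T ≪≫ (Scheme.Modules.pushforwardCongr sq).app T ≪≫
    ((Scheme.Modules.pushforwardComp q j).app T).symm

lemma swapIso_hom_app (sq : j' ≫ h = q ≫ j) (T : Z.Modules) (W : X.Opens)
    (t : Γ((Scheme.Modules.pushforward h).obj ((Scheme.Modules.pushforward j').obj T), W)) :
    (swapIso sq T).hom.app W t = T.presheaf.map (eqToHom (by rw [← Scheme.Hom.comp_preimage,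
      ← Scheme.Hom.comp_preimage, sq] : q ⁻¹ᵁ (j ⁻¹ᵁ W) = j' ⁻¹ᵁ (h ⁻¹ᵁ W))).op t := by
  rfl

end swap

end Groth.Agent.H8.RelTwist
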