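import Groth.Agent.Lib.Helper8.RelTwist.MapTwist1

/-! # The chart relation of `h_* O_{Proj ℬ}(n)` on `Proj 𝒜`. -/

set_option autoImplicit false
universe u
open AlgebraicGeometry CategoryTheory Opposite TopologicalSpace
open scoped HomogeneousIdeal

namespace Groth.Agent.H8.RelTwist

open Groth.Agent.LD.QC Groth.Agent.H8.RelTilde Groth.Agent.H8.ProjTilde

variable {Y PA PB : Scheme.{u}} {𝒜 ℬ : RelProj.QCGrAlg Y}
  {φ : 𝒜.toQCAlg ⟶ ℬ.toQCAlg} {hφ : RelProj.IsGradedHom φ}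
  {hirr : ∀ (U : Y.Opens) (hU : IsAffineOpen U),
    (ℬ.deg U hU)₊ ≤ ((𝒜.deg U hU)₊).map (RelProj.gradedHomAt φ hφ U hU)}
  {pA : PA ⟶ Y} {pB : PB ⟶ Y}
  {chartA : ∀ (U : Y.Opens) (hU : IsAffineOpen U), (((pA ⁻¹ᵁ U : PA.Opens) : Scheme.{u}) ≅ Proj (𝒜.deg U hU))}
  {chartB : ∀ (U : Y.Opens) (hU : IsAffineOpen U), (((pB ⁻¹ᵁ U : PB.Opens) : Scheme.{u}) ≅ Proj (ℬ.deg U hU))}
  {h : PB ⟶ PA}

variable (φ hφ hirr) in
/-- the chart modules of `h_* O_{Proj ℬ}(n)`: the pushforwards of `O(n)` along `Proj ℬ(U) ⟶ Proj 𝒜(U)`. -/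
noncomputable def pushTw (n : ℤ) (U : Y.Opens) (hU : IsAffineOpen U) : (Proj (𝒜.deg U hU)).Modules :=
  (Scheme.Modules.pushforward (Proj.map (RelProj.gradedHomAt φ hφ U hU) (hirr U hU))).obj
    (GrTwist.twist (ℬ.deg U hU) n)

/-- the chart relation of `h_* O_{Proj ℬ}(n)`. -/
def pushRel (hA : RelProj.IsRelProj 𝒜 pA chartA) (n : ℤ) :
    ChartRel 𝒜 pA chartA (pushTw φ hφ hirr n) where
  Rel U hU r W tV tD :=
    ∀ (y : ProjectiveSpectrum (ℬ.deg (Y.basicOpen r) (hU.basicOpen r)))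
      (hy : (RelProj.emb pA chartA (Y.basicOpen r) (hU.basicOpen r)).base
        (ProjectiveSpectrum.comap (RelProj.gradedHomAt φ hφ (Y.basicOpen r) (hU.basicOpen r))
          (hirr (Y.basicOpen r) (hU.basicOpen r)) y) ∈ W)
      (hy' : (RelProj.emb pA chartA U hU).base
        (ProjectiveSpectrum.comap (RelProj.gradedHomAt φ hφ U hU) (hirr U hU)
          (ProjectiveSpectrum.comap (ℬ.res hU (hU.basicOpen r) (Y.basicOpen_le r))
            (ℬ.irrelevant_le_map U hU r) y)) ∈ W),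
      GrTwist.val (V := Proj.map (RelProj.gradedHomAt φ hφ (Y.basicOpen r) (hU.basicOpen r))
          (hirr (Y.basicOpen r) (hU.basicOpen r)) ⁻¹ᵁ
            (RelProj.emb pA chartA (Y.basicOpen r) (hU.basicOpen r) ⁻¹ᵁ W)) tD ⟨y, hy⟩ =
        GrTwist.locMap (ℬ.res hU (hU.basicOpen r) (Y.basicOpen_le r)) (ℬ.irrelevant_le_map U hU r) y
          (GrTwist.val (V := Proj.map (RelProj.gradedHomAt φ hφ U hU) (hirr U hU) ⁻¹ᵁ
            (RelProj.emb pA chartA U hU ⁻¹ᵁ W)) tV ⟨_, hy'⟩)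
  res U hU r W W' h tV tD hrel y hy hy' := hrel y (h hy) (h hy')
  det U hU r W hW tV tD tD' h1 h2 := by
    refine Groth.Agent.H8.GTW.sectN_ext fun y0 => ?_
    obtain ⟨y, hy⟩ : (Proj.map (RelProj.gradedHomAt φ hφ (Y.basicOpen r) (hU.basicOpen r))
          (hirr (Y.basicOpen r) (hU.basicOpen r)) ⁻¹ᵁ
            (RelProj.emb pA chartA (Y.basicOpen r) (hU.basicOpen r) ⁻¹ᵁ W) :
      Opens (ProjectiveSpectrum.top (ℬ.deg (Y.basicOpen r) (hU.basicOpen r)))) := y0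
    have hy' : (RelProj.emb pA chartA U hU).base
        (ProjectiveSpectrum.comap (RelProj.gradedHomAt φ hφ U hU) (hirr U hU)
          (ProjectiveSpectrum.comap (ℬ.res hU (hU.basicOpen r) (Y.basicOpen_le r))
            (ℬ.irrelevant_le_map U hU r) y)) ∈ W := by
      rw [← comap_comm, emb_comap hA]; exact hy
    exact (h1 y hy hy').trans (h2 y hy hy').symm

end Groth.Agent.H8.RelTwist
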