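import Groth.Agent.Lib.Helper8.RelTwist.MapTwist2

/-! # The chart maps of `h_* O_{Proj ℬ}(n)` and the comparison family. -/

set_option autoImplicit false
universe u
open AlgebraicGeometry CategoryTheory Opposite TopologicalSpace
open scoped HomogeneousIdeal

namespace Groth.Agent.H8.RelTwist

open Groth.Agent.LD.QC Groth.Agent.H8.RelTilde Groth.Agent.H8.ProjTilde

variable {Y PA PB : Scheme.{u}} {𝒜 ℬ : RelProj.QCGrAlg Y}
  {φ : 𝒜.toQCAlg ⟶ ℬ.toQCAlg} {hφ : RelProj.IsGradedHom φ}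
  {hirr : ∀ (U : Y.Opens) (hU : IsAffineOpen U),
    (ℬ.deg U hU)₊ ≤ ((𝒜.deg U hU)₊).map (RelProj.gradedHomAt φ hφ U hU)}
  {pA : PA ⟶ Y} {pB : PB ⟶ Y}
  {chartA : ∀ (U : Y.Opens) (hU : IsAffineOpen U), (((pA ⁻¹ᵁ U : PA.Opens) : Scheme.{u}) ≅ Proj (𝒜.deg U hU))}
  {chartB : ∀ (U : Y.Opens) (hU : IsAffineOpen U), (((pB ⁻¹ᵁ U : PB.Opens) : Scheme.{u}) ≅ Proj (ℬ.deg U hU))}
  {h : PB ⟶ PA} {n : ℤ} {LA : PA.Modules} {LB : PB.Modules}
  (lamA : ∀ (U : Y.Opens) (hU : IsAffineOpen U),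
    LA ⟶ (Scheme.Modules.pushforward (RelProj.emb pA chartA U hU)).obj (GrTwist.twist (𝒜.deg U hU) n))
  (lamB : ∀ (U : Y.Opens) (hU : IsAffineOpen U),
    LB ⟶ (Scheme.Modules.pushforward (RelProj.emb pB chartB U hU)).obj (GrTwist.twist (ℬ.deg U hU) n))

/-- the chart maps of `h_* L_B`. -/
noncomputable def lamPush (hh : RelProj.IsRelProjMap φ hφ hirr chartA chartB h)
    (U : Y.Opens) (hU : IsAffineOpen U) :
    (Scheme.Modules.pushforward h).obj LB ⟶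
      (Scheme.Modules.pushforward (RelProj.emb pA chartA U hU)).obj (pushTw φ hφ hirr n U hU) :=
  (Scheme.Modules.pushforward h).map (lamB U hU) ≫ (swapIso (emb_comp_map hh U hU) _).hom

/-- values of the chart maps of `h_* L_B`. -/
lemma val_lamPush (hh : RelProj.IsRelProjMap φ hφ hirr chartA chartB h)
    (U : Y.Opens) (hU : IsAffineOpen U) (W : PA.Opens) (t : Γ(LB, h ⁻¹ᵁ W))
    (y : ProjectiveSpectrum (ℬ.deg U hU))
    (hy : (RelProj.emb pA chartA U hU).base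
      (ProjectiveSpectrum.comap (RelProj.gradedHomAt φ hφ U hU) (hirr U hU) y) ∈ W)
    (hy' : (RelProj.emb pB chartB U hU).base y ∈ h ⁻¹ᵁ W) :
    GrTwist.val (V := Proj.map (RelProj.gradedHomAt φ hφ U hU) (hirr U hU) ⁻¹ᵁ
        (RelProj.emb pA chartA U hU ⁻¹ᵁ W))
      ((lamPush lamB hh U hU).app W (show Γ((Scheme.Modules.pushforward h).obj LB, W) from t)) ⟨y, hy⟩ =
    GrTwist.val (V := RelProj.emb pB chartB U hU ⁻¹ᵁ (h ⁻¹ᵁ W)) ((lamB U hU).app (h ⁻¹ᵁ W) t) ⟨y, hy'⟩ :=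
  rfl

/-- the comparison family `L_A ⟶ (j_U)_* (Proj.map)_* O(n)`. -/
noncomputable def thetaFam (U : Y.Opens) (hU : IsAffineOpen U) :
    LA ⟶ (Scheme.Modules.pushforward (RelProj.emb pA chartA U hU)).obj (pushTw φ hφ hirr n U hU) :=
  lamA U hU ≫ (Scheme.Modules.pushforward (RelProj.emb pA chartA U hU)).map
    (GrTwist.comap (RelProj.gradedHomAt φ hφ U hU) (hirr U hU) n)

lemma val_thetaFam (U : Y.Opens) (hU : IsAffineOpen U) (W : PA.Opens) (s : Γ(LA, W))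
    (y : ProjectiveSpectrum (ℬ.deg U hU))
    (hy : (RelProj.emb pA chartA U hU).base
      (ProjectiveSpectrum.comap (RelProj.gradedHomAt φ hφ U hU) (hirr U hU) y) ∈ W) :
    GrTwist.val (V := Proj.map (RelProj.gradedHomAt φ hφ U hU) (hirr U hU) ⁻¹ᵁ
        (RelProj.emb pA chartA U hU ⁻¹ᵁ W))
      ((thetaFam (φ := φ) (hφ := hφ) (hirr := hirr) lamA U hU).app W s) ⟨y, hy⟩ =
    GrTwist.locMap (RelProj.gradedHomAt φ hφ U hU) (hirr U hU) y
      (GrTwist.val (V := RelProj.emb pA chartA U hU ⁻¹ᵁ W) ((lamA U hU).app W s) ⟨_, hy⟩) :=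
  rfl

end Groth.Agent.H8.RelTwist
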