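import Groth.Agent.Lib.Helper8.RelTwist.MapTwist3

/-! # Compatibility of the chart maps of `h_* O_{Proj ℬ}(n)` and of the comparison family. -/

set_option autoImplicit false
universe u
open AlgebraicGeometry CategoryTheory Opposite TopologicalSpace
open scoped HomogeneousIdeal

namespace Groth.Agent.H8.RelTwist

open Groth.Agent.LD.QC Groth.Agent.H8.RelTilde Groth.Agent.H8.ProjTilde

variable {Y PA PB : Scheme.{u}} {𝒜 ℬ : RelProj.QCGrAlg Y}
  {φ : 𝒜.toQCAlg ⟶ ℬ.toQCAlg} {hφ : RelProj.IsGradedHom φ}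
  {hirr : ∀ (U : Y.Opens) (hU : IsAffineOpen U),
    (ℬ.deg U hU)₊ ≤ ((𝒜.deg U hU)₊).map (RelProj.gradedHomAt φ hφ U hU)}
  {pA : PA ⟶ Y} {pB : PB ⟶ Y}
  {chartA : ∀ (U : Y.Opens) (hU : IsAffineOpen U), (((pA ⁻¹ᵁ U : PA.Opens) : Scheme.{u}) ≅ Proj (𝒜.deg U hU))}
  {chartB : ∀ (U : Y.Opens) (hU : IsAffineOpen U), (((pB ⁻¹ᵁ U : PB.Opens) : Scheme.{u}) ≅ Proj (ℬ.deg U hU))}
  {h : PB ⟶ PA} {n : ℤ} {LA : PA.Modules} {LB : PB.Modules}
  {lamA : ∀ (U : Y.Opens) (hU : IsAffineOpen U),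
    LA ⟶ (Scheme.Modules.pushforward (RelProj.emb pA chartA U hU)).obj (GrTwist.twist (𝒜.deg U hU) n)}
  {lamB : ∀ (U : Y.Opens) (hU : IsAffineOpen U),
    LB ⟶ (Scheme.Modules.pushforward (RelProj.emb pB chartB U hU)).obj (GrTwist.twist (ℬ.deg U hU) n)}

/-- the chart maps of `h_* L_B` are compatible. -/
theorem compat_lamPush (hA : RelProj.IsRelProj 𝒜 pA chartA)
    (hh : RelProj.IsRelProjMap φ hφ hirr chartA chartB h)
    (hLB : RelProj.IsRelTwist ℬ pB chartB n LB lamB) :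
    Compat (pushRel hA n) ((Scheme.Modules.pushforward h).obj LB) (lamPush lamB hh) := by
  intro U hU r W t y hy hy'
  have hyB : (RelProj.emb pB chartB (Y.basicOpen r) (hU.basicOpen r)).base y ∈ h ⁻¹ᵁ W := by
    change h.base _ ∈ W
    rw [h_embB hh]; exact hy
  have hyB' : (RelProj.emb pB chartB U hU).base (ProjectiveSpectrum.comap
      (ℬ.res hU (hU.basicOpen r) (Y.basicOpen_le r)) (ℬ.irrelevant_le_map U hU r) y) ∈ h ⁻¹ᵁ W := by
    change h.base _ ∈ W
    rw [h_embB hh]; exact hy'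
  rw [val_lamPush lamB hh (Y.basicOpen r) (hU.basicOpen r) W t y hy hyB,
    val_lamPush lamB hh U hU W t _ hy' hyB']
  exact hLB.compat U hU r (h ⁻¹ᵁ W) t y hyB hyB'

/-- the chart maps of `h_* L_B` are bijective over the charts. -/
theorem bijective_lamPush (hA : RelProj.IsRelProj 𝒜 pA chartA) (hB : RelProj.IsRelProj ℬ pB chartB)
    (hh : RelProj.IsRelProjMap φ hφ hirr chartA chartB h)
    (hLB : RelProj.IsRelTwist ℬ pB chartB n LB lamB)
    (U : Y.Opens) (hU : IsAffineOpen U) (W : PA.Opens) (hW : W ≤ pA ⁻¹ᵁ U) :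
    Function.Bijective ((lamPush lamB hh U hU).app W) := by
  have hW' : h ⁻¹ᵁ W ≤ pB ⁻¹ᵁ U := by
    intro x hx
    have := hW hx
    rw [← Groth.Agent.H4.RelProjLib.relProjMap_over φ hφ hirr hA hB hh]
    exact this
  have h1 := hLB.bijective U hU (h ⁻¹ᵁ W) hW'
  have h2 := app_bijective_of_isIso (swapIso (emb_comp_map hh U hU) (GrTwist.twist (ℬ.deg U hU) n)).hom W
  exact h2.comp h1

/-- the comparison family is compatible. -/
theorem compat_thetaFam (hA : RelProj.IsRelProj 𝒜 pA chartA)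
    (hLA : RelProj.IsRelTwist 𝒜 pA chartA n LA lamA) :
    Compat (pushRel (φ := φ) (hφ := hφ) (hirr := hirr) hA n) LA (thetaFam lamA) := by
  intro U hU r W s y hy hy'
  have hy'' : (RelProj.emb pA chartA U hU).base (ProjectiveSpectrum.comap
      (𝒜.res hU (hU.basicOpen r) (Y.basicOpen_le r)) (𝒜.irrelevant_le_map U hU r)
      (ProjectiveSpectrum.comap (RelProj.gradedHomAt φ hφ (Y.basicOpen r) (hU.basicOpen r))
        (hirr (Y.basicOpen r) (hU.basicOpen r)) y)) ∈ W := by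
    rw [emb_comap hA]; exact hy
  rw [val_thetaFam lamA (Y.basicOpen r) (hU.basicOpen r) W s y hy, val_thetaFam lamA U hU W s _ hy',
    hLA.compat U hU r W s _ hy hy'']
  exact val_eq_of_point_eq (comap_comm U hU r y)
    ((GrTwist.locMap (RelProj.gradedHomAt φ hφ (Y.basicOpen r) (hU.basicOpen r))
      (hirr (Y.basicOpen r) (hU.basicOpen r)) y).comp
      (GrTwist.locMap (𝒜.res hU (hU.basicOpen r) (Y.basicOpen_le r)) (𝒜.irrelevant_le_map U hU r) _))
    ((GrTwist.locMap (ℬ.res hU (hU.basicOpen r) (Y.basicOpen_le r)) (ℬ.irrelevant_le_map U hU r) y).comp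
      (GrTwist.locMap (RelProj.gradedHomAt φ hφ U hU) (hirr U hU) _))
    (fun a s hs1 hs2 => by
      simp only [RingHom.comp_apply, GrTwist.locMap_mk]
      congr 1
      · exact gradedHomAt_res U _ hU (hU.basicOpen r) (Y.basicOpen_le r) a
      · exact Subtype.ext (gradedHomAt_res U _ hU (hU.basicOpen r) (Y.basicOpen_le r) s))
    (show GrTwist.sectN (𝒜 := 𝒜.deg U hU) n (op (RelProj.emb pA chartA U hU ⁻¹ᵁ W)) from
      (lamA U hU).app W s) hy'' hy'

end Groth.Agent.H8.RelTwist
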