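import Groth.Agent.Lib.Helper8.RelTwist.MapTwist4

/-! # Existence and uniqueness of the comparison map `O_{Proj 𝒜}(n) ⟶ h_* O_{Proj ℬ}(n)`. -/

set_option autoImplicit false
universe u
open AlgebraicGeometry CategoryTheory Opposite TopologicalSpace
open scoped HomogeneousIdeal

namespace Groth.Agent.H8.RelTwist

open Groth.Agent.LD.QC Groth.Agent.H8.RelTilde Groth.Agent.H8.ProjTilde

variable {Y PA PB : Scheme.{u}} {𝒜 ℬ : RelProj.QCGrAlg Y}
  {φ : 𝒜.toQCAlg ⟶ ℬ.toQCAlg} {hφ : RelProj.IsGradedHom φ}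
  {hirr : ∀ (U : Y.Opens) (hU : IsAffineOpen U),
    (ℬ.deg U hU)₊ ≤ ((𝒜.deg U hU)₊).map (RelProj.gradedHomAt φ hφ U hU)}
  {pA : PA ⟶ Y} {pB : PB ⟶ Y}
  {chartA : ∀ (U : Y.Opens) (hU : IsAffineOpen U), (((pA ⁻¹ᵁ U : PA.Opens) : Scheme.{u}) ≅ Proj (𝒜.deg U hU))}
  {chartB : ∀ (U : Y.Opens) (hU : IsAffineOpen U), (((pB ⁻¹ᵁ U : PB.Opens) : Scheme.{u}) ≅ Proj (ℬ.deg U hU))}
  {h : PB ⟶ PA} {n : ℤ} {LA : PA.Modules} {LB : PB.Modules}
  {lamA : ∀ (U : Y.Opens) (hU : IsAffineOpen U),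
    LA ⟶ (Scheme.Modules.pushforward (RelProj.emb pA chartA U hU)).obj (GrTwist.twist (𝒜.deg U hU) n)}
  {lamB : ∀ (U : Y.Opens) (hU : IsAffineOpen U),
    LB ⟶ (Scheme.Modules.pushforward (RelProj.emb pB chartB U hU)).obj (GrTwist.twist (ℬ.deg U hU) n)}

/-- the valuewise characterisation of the comparison map. -/
def IsComparison (θ : LA ⟶ (Scheme.Modules.pushforward h).obj LB) : Prop :=
  ∀ (U : Y.Opens) (hU : IsAffineOpen U) (W : PA.Opens) (s : Γ(LA, W))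
    (y : ProjectiveSpectrum (ℬ.deg U hU))
    (hy : (RelProj.emb pB chartB U hU).base y ∈ h ⁻¹ᵁ W)
    (hy' : (RelProj.emb pA chartA U hU).base
      (ProjectiveSpectrum.comap (RelProj.gradedHomAt φ hφ U hU) (hirr U hU) y) ∈ W),
    GrTwist.val (V := RelProj.emb pB chartB U hU ⁻¹ᵁ (h ⁻¹ᵁ W)) ((lamB U hU).app (h ⁻¹ᵁ W) (θ.app W s)) ⟨y, hy⟩ =
      GrTwist.locMap (RelProj.gradedHomAt φ hφ U hU) (hirr U hU) y
        (GrTwist.val (V := RelProj.emb pA chartA U hU ⁻¹ᵁ W) ((lamA U hU).app W s) ⟨_, hy'⟩)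

/-- the valuewise characterisation is equivalent to the chartwise factorisation. -/
lemma isComparison_iff (hh : RelProj.IsRelProjMap φ hφ hirr chartA chartB h)
    (θ : LA ⟶ (Scheme.Modules.pushforward h).obj LB) :
    IsComparison (φ := φ) (hφ := hφ) (hirr := hirr) (lamA := lamA) (lamB := lamB) θ ↔
      ∀ (U : Y.Opens) (hU : IsAffineOpen U), θ ≫ lamPush lamB hh U hU = thetaFam lamA U hU := by
  constructor
  · intro hθ U hU
    refine Scheme.Modules.hom_ext _ _ fun W => ?_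
    ext s
    refine Groth.Agent.H8.GTW.sectN_ext fun y0 => ?_
    obtain ⟨y, hy⟩ : (Proj.map (RelProj.gradedHomAt φ hφ U hU) (hirr U hU) ⁻¹ᵁ
        (RelProj.emb pA chartA U hU ⁻¹ᵁ W) : Opens (ProjectiveSpectrum.top (ℬ.deg U hU))) := y0
    have hyB : (RelProj.emb pB chartB U hU).base y ∈ h ⁻¹ᵁ W := by
      change h.base _ ∈ W
      rw [h_embB hh]; exact hy
    exact hθ U hU W s y hyB hy
  · intro hθ U hU W s y hy hy'
    have e := congrArg (fun ψ => GrTwist.val (V := Proj.map (RelProj.gradedHomAt φ hφ U hU) (hirr U hU) ⁻¹ᵁ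
        (RelProj.emb pA chartA U hU ⁻¹ᵁ W)) (ψ.app W s) ⟨y, hy'⟩) (hθ U hU)
    exact e

/-- **existence and uniqueness of the comparison map of twisting sheaves.** -/
theorem existsUnique_comparison (hA : RelProj.IsRelProj 𝒜 pA chartA) (hB : RelProj.IsRelProj ℬ pB chartB)
    (hh : RelProj.IsRelProjMap φ hφ hirr chartA chartB h)
    (hLA : RelProj.IsRelTwist 𝒜 pA chartA n LA lamA) (hLB : RelProj.IsRelTwist ℬ pB chartB n LB lamB) :
    ∃! θ : LA ⟶ (Scheme.Modules.pushforward h).obj LB,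
      IsComparison (φ := φ) (hφ := hφ) (hirr := hirr) (lamA := lamA) (lamB := lamB) θ := by
  obtain ⟨θ, hθ, huniq⟩ := existsUnique_lift (pushRel (φ := φ) (hφ := hφ) (hirr := hirr) hA n)
    (bijective_lamPush hA hB hh hLB) (compat_lamPush hA hh hLB) (compat_thetaFam hA hLA)
  exact ⟨θ, (isComparison_iff hh θ).mpr hθ, fun θ' hθ' => huniq θ' ((isComparison_iff hh θ').mp hθ')⟩

end Groth.Agent.H8.RelTwist
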