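import Mathlib
import Groth.Prelude.Def_RelProj3
import Groth.Agent.Lib.Lead.QC.Extend
import Groth.Agent.Lib.Lead.QC.Gen
import Groth.Agent.Lib.Helper8.RelTilde.Local

/-! # Sections of a module glued from charts of a relative Proj: compatible families. -/

set_option autoImplicit false
universe u
open AlgebraicGeometry CategoryTheory Opposite TopologicalSpace

namespace Groth.Agent.H8.RelTwist

open Groth.Agent.LD.QC Groth.Agent.H8.RelTilde

variable {Y P : Scheme.{u}} {𝒮 : RelProj.QCGrAlg Y} {p : P ⟶ Y}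
  {chart : ∀ (U : Y.Opens) (hU : IsAffineOpen U), (((p ⁻¹ᵁ U : P.Opens) : Scheme.{u}) ≅ Proj (𝒮.deg U hU))}

/-- an abstract compatibility relation between sections of chartwise modules `T U` over an affine open and over a
basic open of it, stable under restriction and determining the section over the basic open. -/
structure ChartRel (𝒮 : RelProj.QCGrAlg Y) (p : P ⟶ Y)
    (chart : ∀ (U : Y.Opens) (hU : IsAffineOpen U), (((p ⁻¹ᵁ U : P.Opens) : Scheme.{u}) ≅ Proj (𝒮.deg U hU)))
    (T : ∀ (U : Y.Opens) (hU : IsAffineOpen U), (Proj (𝒮.deg U hU)).Modules) where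
  Rel : ∀ (U : Y.Opens) (hU : IsAffineOpen U) (r : Γ(Y, U)) (W : P.Opens),
    Γ((Scheme.Modules.pushforward (RelProj.emb p chart U hU)).obj (T U hU), W) →
    Γ((Scheme.Modules.pushforward (RelProj.emb p chart (Y.basicOpen r) (hU.basicOpen r))).obj
      (T (Y.basicOpen r) (hU.basicOpen r)), W) → Prop
  res : ∀ (U : Y.Opens) (hU : IsAffineOpen U) (r : Γ(Y, U)) (W W' : P.Opens) (h : W' ≤ W)
    (tV : Γ((Scheme.Modules.pushforward (RelProj.emb p chart U hU)).obj (T U hU), W))
    (tD : Γ((Scheme.Modules.pushforward (RelProj.emb p chart (Y.basicOpen r) (hU.basicOpen r))).obj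
      (T (Y.basicOpen r) (hU.basicOpen r)), W)), Rel U hU r W tV tD →
    Rel U hU r W'
      (((Scheme.Modules.pushforward (RelProj.emb p chart U hU)).obj (T U hU)).presheaf.map (homOfLE h).op tV)
      (((Scheme.Modules.pushforward (RelProj.emb p chart (Y.basicOpen r) (hU.basicOpen r))).obj
        (T (Y.basicOpen r) (hU.basicOpen r))).presheaf.map (homOfLE h).op tD)
  det : ∀ (U : Y.Opens) (hU : IsAffineOpen U) (r : Γ(Y, U)) (W : P.Opens), W ≤ p ⁻¹ᵁ (Y.basicOpen r) →
    ∀ (tV : Γ((Scheme.Modules.pushforward (RelProj.emb p chart U hU)).obj (T U hU), W))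
      (tD tD' : Γ((Scheme.Modules.pushforward (RelProj.emb p chart (Y.basicOpen r) (hU.basicOpen r))).obj
        (T (Y.basicOpen r) (hU.basicOpen r)), W)), Rel U hU r W tV tD → Rel U hU r W tV tD' → tD = tD'

section general
variable {X Z : Scheme.{u}} (j : Z ⟶ X)

/-- restriction of sections of a pushforward along an open immersion to an open with the same preimage is
injective. -/
lemma pushforward_res_injective (T : Z.Modules) {W W' : X.Opens} (h : W' ≤ W) (heq : j ⁻¹ᵁ W ≤ j ⁻¹ᵁ W') :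
    Function.Injective (((Scheme.Modules.pushforward j).obj T).presheaf.map (homOfLE h).op) :=
  res_injective_of_le_of_le T (j.preimage_mono h) heq

end general

variable {T : ∀ (U : Y.Opens) (hU : IsAffineOpen U), (Proj (𝒮.deg U hU)).Modules}
  (R : ChartRel 𝒮 p chart T) {G : P.Modules}
  (lam : ∀ (U : Y.Opens) (hU : IsAffineOpen U),
    G ⟶ (Scheme.Modules.pushforward (RelProj.emb p chart U hU)).obj (T U hU))
  (hbij : ∀ (U : Y.Opens) (hU : IsAffineOpen U) (W : P.Opens), W ≤ p ⁻¹ᵁ U →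
    Function.Bijective ((lam U hU).app W))
  (hcompat : ∀ (U : Y.Opens) (hU : IsAffineOpen U) (r : Γ(Y, U)) (W : P.Opens) (g : Γ(G, W)),
    R.Rel U hU r W ((lam U hU).app W g) ((lam (Y.basicOpen r) (hU.basicOpen r)).app W g))

/-- the piece of `Ω` over the affine open `U`. -/
abbrev piece (p : P ⟶ Y) (Ω : P.Opens) (U : Y.Opens) : P.Opens := Ω ⊓ p ⁻¹ᵁ U

lemma preimage_piece_ge (Ω : P.Opens) (U : Y.Opens) (hU : IsAffineOpen U) :
    RelProj.emb p chart U hU ⁻¹ᵁ Ω ≤ RelProj.emb p chart U hU ⁻¹ᵁ (piece p Ω U) := by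
  intro z hz
  refine ⟨hz, ?_⟩
  have : (RelProj.emb p chart U hU).base z ∈ (RelProj.emb p chart U hU).opensRange := ⟨z, rfl⟩
  rwa [opensRange_emb] at this

include R hbij hcompat in
/-- **sections of a module glued from charts are the compatible families of chartwise sections.** -/
theorem existsUnique_section (Ω : P.Opens)
    (t : ∀ (U : Y.Opens) (hU : IsAffineOpen U),
      Γ((Scheme.Modules.pushforward (RelProj.emb p chart U hU)).obj (T U hU), Ω))
    (ht : ∀ (U : Y.Opens) (hU : IsAffineOpen U) (r : Γ(Y, U)),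
      R.Rel U hU r Ω (t U hU) (t (Y.basicOpen r) (hU.basicOpen r))) :
    ∃! e : Γ(G, Ω), ∀ (U : Y.Opens) (hU : IsAffineOpen U), (lam U hU).app Ω e = t U hU := by
  have hΩ : ∀ U : Y.Opens, piece p Ω U ≤ Ω := fun U => inf_le_left
  have hex : ∀ (U : Y.Opens) (hU : IsAffineOpen U), ∃ e : Γ(G, piece p Ω U),
      (lam U hU).app (piece p Ω U) e =
        ((Scheme.Modules.pushforward (RelProj.emb p chart U hU)).obj (T U hU)).presheaf.map
          (homOfLE (hΩ U)).op (t U hU) :=
    fun U hU => (hbij U hU (piece p Ω U) inf_le_right).2 _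
  choose eU heU using hex
  -- step 2: compatibility with basic opens
  have hmono : ∀ (U : Y.Opens) (r : Γ(Y, U)), piece p Ω (Y.basicOpen r) ≤ piece p Ω U := fun U r =>
    inf_le_inf_left _ (p.preimage_mono (Y.basicOpen_le r))
  have step2 : ∀ (U : Y.Opens) (hU : IsAffineOpen U) (r : Γ(Y, U)),
      G.presheaf.map (homOfLE (hmono U r)).op (eU U hU) = eU (Y.basicOpen r) (hU.basicOpen r) := by
    intro U hU r
    apply (hbij (Y.basicOpen r) (hU.basicOpen r) (piece p Ω (Y.basicOpen r)) inf_le_right).1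
    rw [heU (Y.basicOpen r) (hU.basicOpen r)]
    refine R.det U hU r (piece p Ω (Y.basicOpen r)) inf_le_right
      (((Scheme.Modules.pushforward (RelProj.emb p chart U hU)).obj (T U hU)).presheaf.map
        (homOfLE (hΩ (Y.basicOpen r))).op (t U hU)) _ _ ?_ ?_
    · have h1 := hcompat U hU r (piece p Ω (Y.basicOpen r))
        (G.presheaf.map (homOfLE (hmono U r)).op (eU U hU))
      have h2 : (lam U hU).app (piece p Ω (Y.basicOpen r))
          (G.presheaf.map (homOfLE (hmono U r)).op (eU U hU)) =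
          ((Scheme.Modules.pushforward (RelProj.emb p chart U hU)).obj (T U hU)).presheaf.map
            (homOfLE (hΩ (Y.basicOpen r))).op (t U hU) := by
        rw [app_res, heU U hU, res_res]
      rwa [h2] at h1
    · exact R.res U hU r Ω _ (hΩ (Y.basicOpen r)) _ _ (ht U hU r)
  -- independence of the presentation of the basic open
  have hcongr : ∀ (D₁ D₂ : Y.Opens) (h : D₁ = D₂) (hD₁ : IsAffineOpen D₁) (hD₂ : IsAffineOpen D₂)
      (W : P.Opens) (h₁ : W ≤ piece p Ω D₁) (h₂ : W ≤ piece p Ω D₂),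
      G.presheaf.map (homOfLE h₁).op (eU D₁ hD₁) = G.presheaf.map (homOfLE h₂).op (eU D₂ hD₂) := by
    intro D₁ D₂ h hD₁ hD₂ W h₁ h₂
    subst h
    rfl
  -- step 3: cross-chart compatibility
  have step3 : ∀ (U U' : Y.Opens) (hU : IsAffineOpen U) (hU' : IsAffineOpen U'),
      G.presheaf.map (homOfLE (inf_le_left : piece p Ω U ⊓ piece p Ω U' ≤ piece p Ω U)).op (eU U hU) =
        G.presheaf.map (homOfLE (inf_le_right : piece p Ω U ⊓ piece p Ω U' ≤ piece p Ω U')).op
          (eU U' hU') := by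
    intro U U' hU hU'
    have hloc : ∀ x : (piece p Ω U ⊓ piece p Ω U' : P.Opens), ∃ (f : Γ(Y, U)) (g : Γ(Y, U')),
        Y.basicOpen f = Y.basicOpen g ∧ p.base x.1 ∈ Y.basicOpen f := fun x =>
      exists_basicOpen_le_affine_inter hU hU' (p.base x.1) ⟨x.2.1.2, x.2.2.2⟩
    choose f g hfg hxf using hloc
    have hV : ∀ x, piece p Ω (Y.basicOpen (f x)) ≤ piece p Ω U ⊓ piece p Ω U' := fun x =>
      le_inf (hmono U (f x)) (by rw [hfg x]; exact hmono U' (g x))
    refine section_ext_of_cover G (fun x => piece p Ω (Y.basicOpen (f x))) hV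
      (fun x hx => Opens.mem_iSup.mpr ⟨⟨x, hx⟩, hx.1.1, hxf ⟨x, hx⟩⟩) _ _ fun x => ?_
    rw [res_res, res_res]
    have e1 := step2 U hU (f x)
    have e2 := step2 U' hU' (g x)
    have hle : piece p Ω (Y.basicOpen (f x)) ≤ piece p Ω (Y.basicOpen (g x)) := by rw [hfg x]
    have e3 := hcongr _ _ (hfg x) (hU.basicOpen (f x)) (hU'.basicOpen (g x))
      (piece p Ω (Y.basicOpen (f x))) le_rfl hle
    rw [res_self] at e3
    have e4 : G.presheaf.map (homOfLE ((hV x).trans inf_le_right)).op (eU U' hU') =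
        G.presheaf.map (homOfLE hle).op
          (G.presheaf.map (homOfLE (hmono U' (g x))).op (eU U' hU')) := by
      rw [res_res]
    rw [e4, e2, ← e3]
    exact e1
  -- step 4: glue
  have hcover : Ω ≤ ⨆ U : Y.affineOpens, piece p Ω U.1 := by
    intro x hx
    have hx' : p.base x ∈ (⊤ : Y.Opens) := trivial
    rw [← iSup_affineOpens_eq_top Y] at hx'
    obtain ⟨U, hU⟩ := Opens.mem_iSup.mp hx'
    exact Opens.mem_iSup.mpr ⟨U, hx, hU⟩
  obtain ⟨e, he, huniq⟩ := TopCat.Sheaf.existsUnique_gluing' ⟨G.presheaf, G.isSheaf⟩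
    (fun U : Y.affineOpens => piece p Ω U.1) Ω (fun U => homOfLE (hΩ U.1)) hcover
    (fun U => eU U.1 U.2) (fun U U' => step3 U.1 U'.1 U.2 U'.2)
  refine ⟨e, fun U hU => ?_, fun e' he' => ?_⟩
  · apply pushforward_res_injective (RelProj.emb p chart U hU) (T U hU) (hΩ U)
      (preimage_piece_ge Ω U hU)
    rw [← app_res, ← heU U hU]
    exact congrArg _ (he ⟨U, hU⟩)
  · apply huniq
    intro U
    apply (hbij U.1 U.2 (piece p Ω U.1) inf_le_right).1
    change (lam U.1 U.2).app (piece p Ω U.1) (G.presheaf.map (homOfLE (hΩ U.1)).op e') = _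
    rw [heU U.1 U.2, app_res, he' U.1 U.2]

end Groth.Agent.H8.RelTwist
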