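import Groth.Agent.Lib.Helper8.RelTwist.Tensor
import Groth.Agent.Lib.Helper8.GTW.ModMul

/-! # Relative tilde modules: `ℳ(k)~ ⊗ O_P(n) ≅ ℳ(k + n)~`. -/

set_option autoImplicit false
universe u
open AlgebraicGeometry CategoryTheory Opposite TopologicalSpace

namespace Groth.Agent.H8.RelTwist

open Groth.Agent.LD.QC Groth.Agent.H8.ProjTilde Groth.Agent.H8.RelTilde Groth.Agent.H8.GTW

variable {Y P : Scheme.{u}} {𝒮 : RelProj.QCGrAlg Y} {p : P ⟶ Y}
  {chart : ∀ (U : Y.Opens) (hU : IsAffineOpen U), (((p ⁻¹ᵁ U : P.Opens) : Scheme.{u}) ≅ Proj (𝒮.deg U hU))}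
  {ℳ : RelProj.GrModule 𝒮} {k n : ℤ} {F L : P.Modules}
  (lamF : ∀ (U : Y.Opens) (hU : IsAffineOpen U),
    F ⟶ (Scheme.Modules.pushforward (RelProj.emb p chart U hU)).obj
      (GrMod.tilde (𝒮.deg U hU) (ℳ.deg U hU) k))
  (lamL : ∀ (U : Y.Opens) (hU : IsAffineOpen U),
    L ⟶ (Scheme.Modules.pushforward (RelProj.emb p chart U hU)).obj (GrTwist.twist (𝒮.deg U hU) n))

/-- the chartwise pairing `F(W) × L(W) → ℳ(k+n)~(j⁻¹ W)`. -/
noncomputable def pairMB (U : Y.Opens) (hU : IsAffineOpen U) (W : P.Opens) :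
    Γ(F, W) →ₗ[Γ(P, W)] Γ(L, W) →ₗ[Γ(P, W)]
      Γ((Scheme.Modules.pushforward (RelProj.emb p chart U hU)).obj
        (GrMod.tilde (𝒮.deg U hU) (ℳ.deg U hU) (k + n)), W) :=
  LinearMap.mk₂ Γ(P, W)
    (fun s t => (show Γ((Scheme.Modules.pushforward (RelProj.emb p chart U hU)).obj
        (GrMod.tilde (𝒮.deg U hU) (ℳ.deg U hU) (k + n)), W) from
      mulModBilin (𝒮.deg U hU) (ℳ.deg U hU) k n (RelProj.emb p chart U hU ⁻¹ᵁ W)
        ((lamF U hU).app W s) ((lamL U hU).app W t)))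
    (fun s s' t => by
      have e : (lamF U hU).app W (s + s') = (lamF U hU).app W s + (lamF U hU).app W s' :=
        map_add ((lamF U hU).app W).hom s s'
      change mulModBilin (𝒮.deg U hU) (ℳ.deg U hU) k n _ ((lamF U hU).app W (s + s')) _ = _
      rw [e]
      exact LinearMap.map_add₂ _ _ _ _)
    (fun r s t => by
      have e := (lamF U hU).app_smul r s
      change mulModBilin (𝒮.deg U hU) (ℳ.deg U hU) k n _ ((lamF U hU).app W (r • s)) _ = _
      rw [e]
      exact LinearMap.map_smul₂ (mulModBilin (𝒮.deg U hU) (ℳ.deg U hU) k n (RelProj.emb p chart U hU ⁻¹ᵁ W))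
        (((RelProj.emb p chart U hU).app W).hom r) _ _)
    (fun s t t' => by
      have e : (lamL U hU).app W (t + t') = (lamL U hU).app W t + (lamL U hU).app W t' :=
        map_add ((lamL U hU).app W).hom t t'
      change mulModBilin (𝒮.deg U hU) (ℳ.deg U hU) k n _ _ ((lamL U hU).app W (t + t')) = _
      rw [e]
      exact map_add _ _ _)
    (fun r s t => by
      have e := (lamL U hU).app_smul r t
      change mulModBilin (𝒮.deg U hU) (ℳ.deg U hU) k n _ _ ((lamL U hU).app W (r • t)) = _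
      rw [e]
      exact map_smul (mulModBilin (𝒮.deg U hU) (ℳ.deg U hU) k n (RelProj.emb p chart U hU ⁻¹ᵁ W) _)
        (((RelProj.emb p chart U hU).app W).hom r) _)

lemma pairMB_apply (U : Y.Opens) (hU : IsAffineOpen U) (W : P.Opens) (s : Γ(F, W)) (t : Γ(L, W)) :
    pairMB lamF lamL U hU W s t =
      mulModBilin (𝒮.deg U hU) (ℳ.deg U hU) k n (RelProj.emb p chart U hU ⁻¹ᵁ W)
        ((lamF U hU).app W s) ((lamL U hU).app W t) := rfl

/-- the chartwise multiplication `F ⊗ L ⟶ (j_U)_* ℳ(k + n)~`. -/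
noncomputable def pairMHom (U : Y.Opens) (hU : IsAffineOpen U) :
    CohB1.tensorMod F L ⟶
      (Scheme.Modules.pushforward (RelProj.emb p chart U hU)).obj
        (GrMod.tilde (𝒮.deg U hU) (ℳ.deg U hU) (k + n)) :=
  tensorDescAll F L _ (pairMB lamF lamL U hU) (fun W V h s t => by
    rw [pairMB_apply, pairMB_apply, app_res, app_res]
    rfl)

lemma pairMHom_app_tmul (U : Y.Opens) (hU : IsAffineOpen U) (W : P.Opens) (s : Γ(F, W)) (t : Γ(L, W)) :
    (pairMHom lamF lamL U hU).app W (SecTwist.tmul F L W s t) = pairMB lamF lamL U hU W s t :=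
  tensorDescAll_app_tmul F L _ _ _ W s t

/-- the value of the product is the product of the values. -/
lemma val_pairMB (U : Y.Opens) (hU : IsAffineOpen U) (W : P.Opens) (s : Γ(F, W)) (t : Γ(L, W))
    (y : (RelProj.emb p chart U hU ⁻¹ᵁ W : (Proj (𝒮.deg U hU)).Opens)) :
    GrMod.val (V := RelProj.emb p chart U hU ⁻¹ᵁ W) (pairMB lamF lamL U hU W s t) y =
      GrTwist.val (V := RelProj.emb p chart U hU ⁻¹ᵁ W) ((lamL U hU).app W t) y •
        GrMod.val (V := RelProj.emb p chart U hU ⁻¹ᵁ W) ((lamF U hU).app W s) y := rfl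

variable {lamF lamL}

/-- the chartwise multiplications are compatible. -/
theorem compat_pairMHom (hP : RelProj.IsRelProj 𝒮 p chart)
    (hF : RelProj.IsRelTilde 𝒮 p chart ℳ k F lamF) (hL : RelProj.IsRelTwist 𝒮 p chart n L lamL) :
    Compat (tildeRel hP ℳ (k + n)) (CohB1.tensorMod F L) (pairMHom lamF lamL) := by
  apply compat_tensor _ (tildeRel_isAdditive hP _ _) (tildeRel_isLocal hP _ _)
  intro U hU r W a b y hy hy'
  rw [pairMHom_app_tmul, pairMHom_app_tmul, val_pairMB, val_pairMB, GrMod.locModMap_smul]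
  exact congrArg₂ (· • ·) (hL.compat U hU r W b y hy hy') (hF.compat U hU r W a y hy hy')


variable {F' : P.Modules}
  {lamF' : ∀ (U : Y.Opens) (hU : IsAffineOpen U),
    F' ⟶ (Scheme.Modules.pushforward (RelProj.emb p chart U hU)).obj
      (GrMod.tilde (𝒮.deg U hU) (ℳ.deg U hU) (k + n))}

/-- **the multiplication `ℳ(k)~ ⊗ O_P(n) ⟶ ℳ(k + n)~`.** -/
theorem exists_mulMHom (hP : RelProj.IsRelProj 𝒮 p chart)
    (hF : RelProj.IsRelTilde 𝒮 p chart ℳ k F lamF) (hL : RelProj.IsRelTwist 𝒮 p chart n L lamL)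
    (hF' : RelProj.IsRelTilde 𝒮 p chart ℳ (k + n) F' lamF') :
    ∃ Φ : CohB1.tensorMod F L ⟶ F', ∀ (U : Y.Opens) (hU : IsAffineOpen U),
      Φ ≫ lamF' U hU = pairMHom lamF lamL U hU :=
  (existsUnique_lift (tildeRel hP ℳ (k + n)) hF'.bijective (compat_of_isRelTilde hP hF')
    (compat_pairMHom hP hF hL)).exists

/-- the multiplication is bijective on sections over an open where `O_P(n)` has a unit section. -/
theorem bijective_mulMHom_app
    (hF : RelProj.IsRelTilde 𝒮 p chart ℳ k F lamF) (hL : RelProj.IsRelTwist 𝒮 p chart n L lamL)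
    (hF' : RelProj.IsRelTilde 𝒮 p chart ℳ (k + n) F' lamF')
    (Φ : CohB1.tensorMod F L ⟶ F')
    (hΦ : ∀ (U : Y.Opens) (hU : IsAffineOpen U), Φ ≫ lamF' U hU = pairMHom lamF lamL U hU)
    (U : Y.Opens) (hU : IsAffineOpen U) (V : P.Opens) (hV : V ≤ p ⁻¹ᵁ U) (e : Γ(L, V))
    (hu : IsUnitSec (show GrTwist.sectN (𝒜 := 𝒮.deg U hU) n (op (RelProj.emb p chart U hU ⁻¹ᵁ V)) from
      (lamL U hU).app V e)) :
    Function.Bijective (Φ.app V) := by
  have he : IsBasisOver L V e := isBasisOver_of_isUnitSec hL U hU V hV e hu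
  have h1 := bijective_tmul_of_isBasisOver F L he V le_rfl
  have hres : L.presheaf.map (homOfLE (le_refl V)).op e = e := by
    change L.presheaf.map (𝟙 _) e = e
    rw [L.presheaf.map_id]; rfl
  rw [hres] at h1
  have h2 : Function.Bijective (fun t : GrMod.sect (𝒮.deg U hU) (ℳ.deg U hU) k
      (op (RelProj.emb p chart U hU ⁻¹ᵁ V)) => mulModSec t
        (show GrTwist.sectN (𝒜 := 𝒮.deg U hU) n (op (RelProj.emb p chart U hU ⁻¹ᵁ V)) from
          (lamL U hU).app V e)) :=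
    mulModSec_bijective_of_isUnitSec hu
  have h3 := hF.bijective U hU V hV
  have h4 := hF'.bijective U hU V hV
  have key : (fun z => (lamF' U hU).app V z) ∘ (fun z => Φ.app V z) ∘
      (fun t : Γ(F, V) => SecTwist.tmul F L V t e) =
      (fun t : GrMod.sect (𝒮.deg U hU) (ℳ.deg U hU) k
        (op (RelProj.emb p chart U hU ⁻¹ᵁ V)) => mulModSec t
          (show GrTwist.sectN (𝒜 := 𝒮.deg U hU) n (op (RelProj.emb p chart U hU ⁻¹ᵁ V)) from
            (lamL U hU).app V e)) ∘ (fun t => (lamF U hU).app V t) := by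
    funext t
    simp only [Function.comp_apply]
    exact (congrArg (fun φ => φ.app V (SecTwist.tmul F L V t e)) (hΦ U hU)).trans
      (pairMHom_app_tmul lamF lamL U hU V t e)
  have h5 : Function.Bijective ((fun z => (lamF' U hU).app V z) ∘ (fun z => Φ.app V z) ∘
      (fun t : Γ(F, V) => SecTwist.tmul F L V t e)) := by
    rw [key]; exact h2.comp h3
  have h6 : Function.Bijective ((fun z => Φ.app V z) ∘
      (fun t : Γ(F, V) => SecTwist.tmul F L V t e)) :=
    (Function.Bijective.of_comp_iff' h4 _).mp h5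
  exact (Function.Bijective.of_comp_iff _ h1).mp h6


/-- **`ℳ(k)~ ⊗ O_P(n) ≅ ℳ(k + n)~`** when `𝒮` is generated in degree one. -/
theorem nonempty_tildeTensor_iso (hP : RelProj.IsRelProj 𝒮 p chart) (hgen : 𝒮.IsGenDegOne)
    (hF : RelProj.IsRelTilde 𝒮 p chart ℳ k F lamF) (hL : RelProj.IsRelTwist 𝒮 p chart n L lamL)
    (hF' : RelProj.IsRelTilde 𝒮 p chart ℳ (k + n) F' lamF') :
    Nonempty (CohB1.tensorMod F L ≅ F') := by
  obtain ⟨Φ, hΦ⟩ := exists_mulMHom hP hF hL hF'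
  have : IsIso Φ := by
    apply isIso_of_local_bijective
    intro x W0 hxW0
    have hx' : x ∈ (⨆ U : Y.affineOpens, (RelProj.emb p chart U.1 U.2).opensRange) := by
      rw [(isOpenCover_emb 𝒮 p chart).iSup_eq_top]; trivial
    obtain ⟨U, z, rfl⟩ := Opens.mem_iSup.mp hx'
    obtain ⟨g, hg1, hzg⟩ := exists_mem_basicOpen_of_span
      (irrelevant_eq_span_degOne (𝒮.deg U.1 U.2) (hgen U.1 U.2)) z
    have hWU : W0 ⊓ RelProj.emb p chart U.1 U.2 ''ᵁ (Proj.basicOpen (𝒮.deg U.1 U.2) g) ≤ p ⁻¹ᵁ U.1 := by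
      rw [← opensRange_emb 𝒮 p chart U.1 U.2]
      rintro _ ⟨-, y, -, rfl⟩
      exact ⟨y, rfl⟩
    have hle : RelProj.emb p chart U.1 U.2 ⁻¹ᵁ
        (W0 ⊓ RelProj.emb p chart U.1 U.2 ''ᵁ (Proj.basicOpen (𝒮.deg U.1 U.2) g)) ≤
        Proj.basicOpen (𝒮.deg U.1 U.2) g := by
      rintro y ⟨-, y', hy', hyy⟩
      rwa [← (RelProj.emb p chart U.1 U.2).isOpenEmbedding.injective hyy]
    obtain ⟨e, he⟩ := exists_unit_preimage hL U.1 U.2 g hg1 _ hWU hle
    exact ⟨W0 ⊓ RelProj.emb p chart U.1 U.2 ''ᵁ (Proj.basicOpen (𝒮.deg U.1 U.2) g),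
      ⟨hxW0, z, hzg, rfl⟩, inf_le_left,
      bijective_mulMHom_app hF hL hF' Φ hΦ U.1 U.2 _ hWU e he⟩
  exact ⟨asIso Φ⟩

/-- variant with the degree of the target given by an equation. -/
theorem nonempty_tildeTensor_iso' (hP : RelProj.IsRelProj 𝒮 p chart) (hgen : 𝒮.IsGenDegOne)
    (hF : RelProj.IsRelTilde 𝒮 p chart ℳ k F lamF) (hL : RelProj.IsRelTwist 𝒮 p chart n L lamL)
    {m : ℤ} (hm : k + n = m) {F'' : P.Modules}
    {lamF'' : ∀ (U : Y.Opens) (hU : IsAffineOpen U),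
      F'' ⟶ (Scheme.Modules.pushforward (RelProj.emb p chart U hU)).obj
        (GrMod.tilde (𝒮.deg U hU) (ℳ.deg U hU) m)}
    (hF'' : RelProj.IsRelTilde 𝒮 p chart ℳ m F'' lamF'') :
    Nonempty (CohB1.tensorMod F L ≅ F'') := by
  subst hm
  exact nonempty_tildeTensor_iso hP hgen hF hL hF''

end Groth.Agent.H8.RelTwist
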