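import Groth.Agent.Lib.Helper8.RelTwist.Basis

/-! # Relative twisting sheaves: unit sections give bases; bases are local. -/

set_option autoImplicit false
universe u
open AlgebraicGeometry CategoryTheory Opposite TopologicalSpace

namespace Groth.Agent.H8.RelTwist

open Groth.Agent.LD.QC Groth.Agent.H8.ProjTilde Groth.Agent.H8.RelTilde Groth.Agent.H8.GTW

section ring
variable {A σ : Type u} [CommRing A] [SetLike σ A] [AddSubgroupClass σ A] {𝒜 : ℕ → σ} [GradedRing 𝒜]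

open GrTwist

/-- the section `g / h` of `O(n)` over an open where `h` vanishes nowhere. -/
def fracSec {i j : ℕ} (g : 𝒜 i) (h : 𝒜 j) (n : ℤ) (hn : (i : ℤ) = j + n)
    (V : Opens (ProjectiveSpectrum.top 𝒜)) (hV : ∀ x : V, (h : A) ∉ x.1.asHomogeneousIdeal) :
    sectN (𝒜 := 𝒜) n (op V) :=
  ⟨fun x => ⟨Localization.mk (g : A) ⟨h.1, hV x⟩, mk_mem_twistAt g h (hV x) hn⟩,
   fun x => ⟨V, x.2, 𝟙 _, i, j, g, h, hV, Or.inl hn, fun _ => rfl⟩⟩

lemma fracSec_val {i j : ℕ} (g : 𝒜 i) (h : 𝒜 j) (n : ℤ) (hn : (i : ℤ) = j + n)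
    (V : Opens (ProjectiveSpectrum.top 𝒜)) (hV : ∀ x : V, (h : A) ∉ x.1.asHomogeneousIdeal) (x : V) :
    (((fracSec g h n hn V hV).1 x : twistAt 𝒜 n x.1) : Loc 𝒜 x.1) =
      Localization.mk (g : A) ⟨h.1, hV x⟩ := rfl

/-- `g / h` is a unit section where neither `g` nor `h` vanishes. -/
lemma isUnitSec_fracSec {i j : ℕ} (g : 𝒜 i) (h : 𝒜 j) (n : ℤ) (hn : (i : ℤ) = j + n)
    (V : Opens (ProjectiveSpectrum.top 𝒜)) (hV : ∀ x : V, (h : A) ∉ x.1.asHomogeneousIdeal)
    (hV' : ∀ x : V, (g : A) ∉ x.1.asHomogeneousIdeal) : IsUnitSec (fracSec g h n hn V hV) := by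
  refine ⟨fracSec h g (-n) (by rw [hn]; ring) V hV', fun x => ?_⟩
  rw [fracSec_val, fracSec_val, Localization.mk_mul]
  have : (⟨h.1, hV x⟩ : x.1.asHomogeneousIdeal.toIdeal.primeCompl) * ⟨g.1, hV' x⟩ =
      ⟨(g : A) * h, x.1.asHomogeneousIdeal.toIdeal.primeCompl.mul_mem (hV' x) (hV x)⟩ :=
    Subtype.ext (mul_comm _ _)
  rw [this]
  exact Localization.mk_self ⟨(g : A) * h, _⟩

/-- a unit section stays a unit section when its expression as a section changes. -/
lemma IsUnitSec.of_val_eq {k : ℤ} {V : Opens (ProjectiveSpectrum.top 𝒜)} {u u' : sectN (𝒜 := 𝒜) k (op V)}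
    (hu : IsUnitSec u) (h : ∀ x : V, (u'.1 x).1 = (u.1 x).1) : IsUnitSec u' := by
  obtain ⟨v, hv⟩ := hu
  exact ⟨v, fun x => by rw [h x]; exact hv x⟩

end ring


section ringmap
variable {A σ : Type u} [CommRing A] [SetLike σ A] [AddSubgroupClass σ A] {𝒜 : ℕ → σ} [GradedRing 𝒜]
variable {B σ' : Type u} [CommRing B] [SetLike σ' B] [AddSubgroupClass σ' B] {ℬ : ℕ → σ'} [GradedRing ℬ]
open GrTwist
open scoped HomogeneousIdeal

/-- fractions are compatible with the maps of localizations induced by a graded ring homomorphism. -/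
lemma locMap_fracSec (ψ : 𝒜 →+*ᵍ ℬ) (hψ : ℬ₊ ≤ (𝒜₊).map ψ) {i j : ℕ} (g : 𝒜 i) (h : 𝒜 j) (n : ℤ)
    (hn : (i : ℤ) = j + n) (V : Opens (ProjectiveSpectrum.top 𝒜))
    (hV : ∀ x : V, (h : A) ∉ x.1.asHomogeneousIdeal)
    (g' : ℬ i) (h' : ℬ j) (hg : ψ g = g') (hh : ψ h = h') (V' : Opens (ProjectiveSpectrum.top ℬ))
    (hV' : ∀ x : V', (h' : B) ∉ x.1.asHomogeneousIdeal)
    (y : ProjectiveSpectrum ℬ) (hy : ProjectiveSpectrum.comap ψ hψ y ∈ V) (hy' : y ∈ V') :
    (((fracSec g' h' n hn V' hV').1 ⟨y, hy'⟩ : twistAt ℬ n y) : Loc ℬ y) =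
      locMap ψ hψ y ((fracSec g h n hn V hV).1 ⟨ProjectiveSpectrum.comap ψ hψ y, hy⟩).1 := by
  rw [fracSec_val, fracSec_val, locMap_mk]
  congr 1
  · exact hg.symm
  · exact Subtype.ext hh.symm

end ringmap

section general
variable {X : Scheme.{u}}

/-- **bases are local**: a section which is a basis near every point of `Ω` trivialises `L` over `Ω`. -/
theorem isIso_homOfSecOver_of_local (L : X.Modules) (Ω : X.Opens) (e : Γ(L, Ω))
    (h : ∀ x ∈ Ω, ∃ (W : X.Opens) (hW : W ≤ Ω), x ∈ W ∧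
      IsBasisOver L W (L.presheaf.map (homOfLE hW).op e)) :
    IsIso (homOfSecOver L Ω e) := by
  apply isIso_of_forall_isBasisOver
  intro x
  obtain ⟨W, hW, hxW, hb⟩ := h x.1 x.2
  refine ⟨Ω.ι ⁻¹ᵁ W, (1 : Γ(Ω, Ω.ι ⁻¹ᵁ W)), hxW, isBasisOver_one _, ?_⟩
  rw [homOfSecOver_app_one]
  have h1 := isBasisOver_restrict L Ω W _ hb
  rw [res_res] at h1
  exact h1

end general

section rel
variable {Y P : Scheme.{u}} {𝒮 : RelProj.QCGrAlg Y} {p : P ⟶ Y}
  {chart : ∀ (U : Y.Opens) (hU : IsAffineOpen U), (((p ⁻¹ᵁ U : P.Opens) : Scheme.{u}) ≅ Proj (𝒮.deg U hU))}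

/-- a section of `O_P(n)` over an open inside a chart which reads as a unit section of `O(n)` is a basis. -/
theorem isBasisOver_of_isUnitSec {n : ℤ} {L : P.Modules}
    {lam : ∀ (U : Y.Opens) (hU : IsAffineOpen U),
      L ⟶ (Scheme.Modules.pushforward (RelProj.emb p chart U hU)).obj (GrTwist.twist (𝒮.deg U hU) n)}
    (hL : RelProj.IsRelTwist 𝒮 p chart n L lam) (U : Y.Opens) (hU : IsAffineOpen U) (W : P.Opens)
    (hW : W ≤ p ⁻¹ᵁ U) (g : Γ(L, W))
    (hu : IsUnitSec (show GrTwist.sectN (𝒜 := 𝒮.deg U hU) n (op (RelProj.emb p chart U hU ⁻¹ᵁ W)) from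
      (lam U hU).app W g)) : IsBasisOver L W g := by
  intro W' hW'
  have hb := hu.isBasisOver (RelProj.emb p chart U hU ⁻¹ᵁ W') ((RelProj.emb p chart U hU).preimage_mono hW')
  have hW'r : W' ≤ (RelProj.emb p chart U hU).opensRange := by
    rw [opensRange_emb]; exact hW'.trans hW
  haveI := (RelProj.emb p chart U hU).isIso_app W' hW'r
  have hj : Function.Bijective ((RelProj.emb p chart U hU).app W').hom :=
    (ConcreteCategory.isIso_iff_bijective ((RelProj.emb p chart U hU).app W')).mp inferInstance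
  have hl := hL.bijective U hU W' (hW'.trans hW)
  have hcomp : (fun t => (lam U hU).app W' t) ∘ (fun a : Γ(P, W') => a • L.presheaf.map (homOfLE hW').op g) =
      (fun b : Γ(Proj (𝒮.deg U hU), RelProj.emb p chart U hU ⁻¹ᵁ W') =>
        b • (GrTwist.twist (𝒮.deg U hU) n).presheaf.map
          (homOfLE ((RelProj.emb p chart U hU).preimage_mono hW')).op
          (show Γ(GrTwist.twist (𝒮.deg U hU) n, RelProj.emb p chart U hU ⁻¹ᵁ W) from (lam U hU).app W g)) ∘
        ((RelProj.emb p chart U hU).app W').hom := by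
    funext a
    rw [Function.comp_apply, Function.comp_apply, Scheme.Modules.Hom.app_smul, app_res]
    rfl
  have h2 : Function.Bijective ((fun t => (lam U hU).app W' t) ∘
      (fun a : Γ(P, W') => a • L.presheaf.map (homOfLE hW').op g)) := by
    rw [hcomp]; exact hb.comp hj
  exact (Function.Bijective.of_comp_iff' hl _).mp h2

end rel

end Groth.Agent.H8.RelTwist
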